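import Mathlib
import Cfsg.Agent.Tits.Core
import Cfsg.Agent.Tits.Exchange
import Cfsg.Agent.Tits.OppRes
set_option linter.all false
/-!
Facts on Coxeter groups with a diagram automorphism, for THEOREM FIX.
-/

set_option autoImplicit false
set_option linter.unusedSectionVars false

namespace Cfsg.Agent.FixBN.Cox

open Cfsg.Agent.Tits.Core Cfsg.Agent.Tits.Exchange Cfsg.Agent.Tits

variable {I : Type*} {M : CoxeterMatrix I} {W : Type*} [Group W] {cs : CoxeterSystem M W}

local prefix:100 "ℓ" => cs.length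

/-! ### Diagram automorphisms -/

section Twist

variable {φ : W ≃* W} {σ : I → I} (hφ : ∀ i, φ (cs.simple i) = cs.simple (σ i))

include hφ

theorem map_wordProd (ω : List I) : φ (cs.wordProd ω) = cs.wordProd (ω.map σ) := by
  induction ω with
  | nil => simp
  | cons i ω ih => rw [cs.wordProd_cons, map_mul, hφ, ih, List.map_cons, cs.wordProd_cons]

theorem length_map_le (w : W) : ℓ (φ w) ≤ ℓ w := by
  obtain ⟨ω, hω, rfl⟩ := cs.exists_isReduced w
  rw [map_wordProd hφ]
  calc ℓ (cs.wordProd (ω.map σ)) ≤ (ω.map σ).length := cs.length_wordProd_le _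
    _ = ω.length := List.length_map _
    _ = ℓ (cs.wordProd ω) := hω.eq.symm

theorem mem_WJ_map {J : Set I} (hJ : ∀ i ∈ J, σ i ∈ J) {w : W} (hw : w ∈ WJ cs J) :
    φ w ∈ WJ cs J := by
  obtain ⟨ω, hω, rfl⟩ := exists_word_of_mem_WJ cs hw
  rw [map_wordProd hφ]
  refine wordProd_mem_WJ cs fun i hi => ?_
  obtain ⟨j, hj, rfl⟩ := List.mem_map.1 hi
  exact hJ j (hω j hj)

variable (hσ : ∀ i, σ (σ i) = i)

include hσ

theorem map_map (w : W) : φ (φ w) = w := by
  obtain ⟨ω, hω, rfl⟩ := cs.exists_isReduced w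
  rw [map_wordProd hφ, map_wordProd hφ, List.map_map]
  congr 1
  exact (List.map_congr_left fun i _ => hσ i).trans (List.map_id _)

theorem length_map (w : W) : ℓ (φ w) = ℓ w := by
  apply le_antisymm (length_map_le hφ w)
  have h := length_map_le hφ (φ w)
  rwa [map_map hφ hσ] at h

theorem map_isMinR {J : Set I} (hJ : ∀ i ∈ J, σ i ∈ J) {v : W} (hv : IsMinR cs J v) :
    IsMinR cs J (φ v) := by
  rw [isMinR_iff] at hv ⊢
  intro i hi
  have h := hv (σ i) (hJ i hi)
  rw [← length_map hφ hσ v, ← length_map hφ hσ (v * _), map_mul, hφ, hσ] at h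
  exact h

variable [F : OppRes.Cox cs]

theorem map_wJ {J : Set I} (hJ : ∀ i ∈ J, σ i ∈ J) : φ (wJ cs J) = wJ cs J := by
  refine F.eq_wJ_of_descents (mem_WJ_map hφ hJ (F.wJ_mem J)) fun j hj => ?_
  have h1 := F.len_wJ_mul (simple_mem_WJ cs (hJ j hj))
  rw [cs.length_simple] at h1
  rw [← length_map hφ hσ, map_mul, map_map hφ hσ, hφ, length_map hφ hσ]
  omega

/-- The minimal displacement is a longest element `w_J`. -/
theorem exists_eq_wJ {w : W} (h1 : φ w = w⁻¹)
    (h2 : ∀ i, ℓ (cs.simple i * w) < ℓ w → cs.simple i * w = w * cs.simple (σ i)) :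
    ∃ J : Set I, (∀ i ∈ J, σ i ∈ J) ∧ w = wJ cs J := by
  set J : Set I := {i | ℓ (cs.simple i * w) < ℓ w} with hJdef
  have hJ : ∀ i, i ∈ J ↔ ℓ (cs.simple i * w) < ℓ w := fun i => Iff.rfl
  obtain ⟨u, hu, v, hw, hv⟩ := exists_isMinL cs J w
  have hv1 : v = 1 := by
    by_contra hne
    obtain ⟨k, hk⟩ := cs.exists_rightDescent_of_ne_one hne
    have hk' : ℓ (v * cs.simple k) < ℓ v := hk
    have h3 : ℓ (w * cs.simple k) < ℓ w := by
      have h4 := hv u hu
      have h5 := cs.length_mul_le u (v * cs.simple k)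
      rw [← mul_assoc, ← hw] at h5
      rw [← hw] at h4
      omega
    have h6 : ℓ (cs.simple (σ k) * w) < ℓ w := by
      rw [← length_map hφ hσ (w * cs.simple k), map_mul, hφ, h1] at h3
      have h7 := cs.length_inv (cs.simple (σ k) * w)
      rw [mul_inv_rev, cs.inv_simple] at h7
      omega
    have h8 := h2 (σ k) h6
    rw [hσ] at h8
    have h9 : v * cs.simple k = (u⁻¹ * cs.simple (σ k) * u) * v := by
      have h10 : cs.simple (σ k) * (u * v) = u * v * cs.simple k := by rw [← hw]; exact h8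
      calc v * cs.simple k = u⁻¹ * (u * v * cs.simple k) := by group
        _ = u⁻¹ * (cs.simple (σ k) * (u * v)) := by rw [h10]
        _ = _ := by group
    have h11 : u⁻¹ * cs.simple (σ k) * u ∈ WJ cs J :=
      mul_mem (mul_mem (inv_mem hu) (simple_mem_WJ cs ((hJ _).2 h6))) hu
    have h12 := hv _ h11
    rw [← h9] at h12
    omega
  have hwu : w = u := by rw [hw, hv1, mul_one]
  have hwJ : w ∈ WJ cs J := by rw [hwu]; exact hu
  have h3 : w⁻¹ = wJ cs J := by
    refine F.eq_wJ_of_descents (inv_mem hwJ) fun j hj => ?_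
    have h4 := cs.length_inv (cs.simple j * w)
    rw [mul_inv_rev, cs.inv_simple] at h4
    rw [h4, cs.length_inv]
    exact hj
  have h4 : w = wJ cs J := by rw [← inv_inv w, h3, F.wJ_inv]
  refine ⟨J, fun i hi => ?_, h4⟩
  have h5 : φ w = w := by rw [h1, h3, h4]
  rw [hJ] at hi ⊢
  rw [← length_map hφ hσ, map_mul, hφ, h5] at hi
  rw [← length_map hφ hσ w, h5] at hi
  exact hi

end Twist

/-! ### Parallel subsets -/

/-- `w` is a minimal double coset representative which conjugates `J'` to `J`. -/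
structure Par (cs : CoxeterSystem M W) (J J' : Set I) (w : W) : Prop where
  fwd : ∀ j ∈ J', ∃ k ∈ J, w * cs.simple j = cs.simple k * w
  bwd : ∀ k ∈ J, ∃ j ∈ J', cs.simple k * w = w * cs.simple j
  minL : IsMinL cs J w
  minR : IsMinR cs J' w

namespace Par

variable {J J' : Set I} {w : W}

theorem symm (h : Par cs J J' w) : Par cs J' J w⁻¹ := by
  refine ⟨fun k hk => ?_, fun j hj => ?_, ?_, ?_⟩
  · obtain ⟨j, hj, he⟩ := h.bwd k hk
    refine ⟨j, hj, ?_⟩
    calc w⁻¹ * cs.simple k = w⁻¹ * (cs.simple k * w) * w⁻¹ := by group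
      _ = w⁻¹ * (w * cs.simple j) * w⁻¹ := by rw [he]
      _ = _ := by group
  · obtain ⟨k, hk, he⟩ := h.fwd j hj
    refine ⟨k, hk, ?_⟩
    calc cs.simple j * w⁻¹ = w⁻¹ * (w * cs.simple j) * w⁻¹ := by group
      _ = w⁻¹ * (cs.simple k * w) * w⁻¹ := by rw [he]
      _ = _ := by group
  · exact (isMinL_inv_iff cs).2 h.minR |> fun h' => h'
  · exact (isMinR_inv_iff cs).2 h.minL

theorem mulR (h : Par cs J J' w) {b : W} (hb : b ∈ WJ cs J') :
    ∃ a ∈ WJ cs J, w * b = a * w ∧ ℓ a = ℓ b := by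
  have h1 : ∃ a ∈ WJ cs J, w * b = a * w := by
    obtain ⟨ω, hω, rfl⟩ := exists_word_of_mem_WJ cs hb
    clear hb
    induction ω with
    | nil => exact ⟨1, one_mem _, by simp⟩
    | cons i ω ih =>
      obtain ⟨a, ha, he⟩ := ih fun j hj => hω j (by simp [hj])
      obtain ⟨k, hk, hk'⟩ := h.fwd i (hω i (by simp))
      refine ⟨cs.simple k * a, mul_mem (simple_mem_WJ cs hk) ha, ?_⟩
      rw [cs.wordProd_cons, ← mul_assoc, hk', mul_assoc, he, mul_assoc]
  obtain ⟨a, ha, he⟩ := h1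
  refine ⟨a, ha, he, ?_⟩
  have h2 := h.minL a ha
  have h3 := h.minR b hb
  rw [he] at h3
  omega

theorem mulL (h : Par cs J J' w) {a : W} (ha : a ∈ WJ cs J) :
    ∃ b ∈ WJ cs J', a * w = w * b ∧ ℓ b = ℓ a := by
  obtain ⟨b, hb, he, hl⟩ := h.symm.mulR (b := a⁻¹) (inv_mem ha)
  refine ⟨b⁻¹, inv_mem hb, ?_, by rw [cs.length_inv, hl, cs.length_inv]⟩
  have h1 := congrArg (fun z => z⁻¹) he
  simp only [mul_inv_rev, inv_inv] at h1
  exact h1

variable [F : OppRes.Cox cs]

theorem longest (h : Par cs J J' w) : w * wJ cs J' = wJ cs J * w := by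
  obtain ⟨a, ha, he, hl⟩ := h.mulR (F.wJ_mem J')
  obtain ⟨b, hb, he', hl'⟩ := h.mulL (F.wJ_mem J)
  have h1 := (F.longest J').length_le hb
  have h2 : a = wJ cs J := (F.longest J).eq_of_length ha (by omega)
  rw [he, h2]

end Par

variable [F : OppRes.Cox cs]

/-- A minimal double coset representative which commutes with the longest elements is parallel. -/
theorem par_of_longest {J J' : Set I} {w : W} (hL : IsMinL cs J w) (hR : IsMinR cs J' w)
    (h : wJ cs J * w = w * wJ cs J') : Par cs J J' w := by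
  have key : ∀ (K K' : Set I) (v : W), IsMinL cs K v → IsMinR cs K' v →
      wJ cs K * v = v * wJ cs K' → ∀ j ∈ K', ∃ k ∈ K, v * cs.simple j = cs.simple k * v := by
    intro K K' v hL hR h j hj
    have hl : ℓ (wJ cs K) = ℓ (wJ cs K') := by
      have h1 := hL _ (F.wJ_mem K)
      have h2 := hR _ (F.wJ_mem K')
      rw [h] at h1
      omega
    have h1 : ¬ IsMinL cs K (v * cs.simple j) := by
      intro h2
      have h3 := h2 _ (F.wJ_mem K)
      rw [← mul_assoc, h, mul_assoc] at h3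
      have h4 := hR _ (mul_mem (F.wJ_mem K') (simple_mem_WJ cs hj))
      have h5 := F.len_wJ_mul (simple_mem_WJ cs hj)
      have h6 := hR _ (simple_mem_WJ cs hj)
      rw [cs.length_simple] at h5 h6
      omega
    rw [isMinL_iff] at h1
    push Not at h1
    obtain ⟨k, hk, h2⟩ := h1
    refine ⟨k, hk, ?_⟩
    have h3 : ℓ (cs.simple k * v) = ℓ v + 1 := by
      rw [hL _ (simple_mem_WJ cs hk), cs.length_simple]; omega
    have h4 : ℓ (v * cs.simple j) = ℓ v + 1 := by
      rw [hR _ (simple_mem_WJ cs hj), cs.length_simple]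
    rcases fold cs h3 h4 with h5 | h5
    · rw [mul_assoc] at h5
      omega
    · exact h5.symm
  refine ⟨key J J' w hL hR h, fun k hk => ?_, hL, hR⟩
  have h' : wJ cs J' * w⁻¹ = w⁻¹ * wJ cs J := by
    have h1 := congrArg (fun z => z⁻¹) h
    simp only [mul_inv_rev, F.wJ_inv] at h1
    exact h1.symm
  obtain ⟨j, hj, he⟩ := key J' J w⁻¹ ((isMinL_inv_iff cs).2 hR) ((isMinR_inv_iff cs).2 hL) h' k hk
  refine ⟨j, hj, ?_⟩
  calc cs.simple k * w = w * (w⁻¹ * cs.simple k) * w := by group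
    _ = w * (cs.simple j * w⁻¹) * w := by rw [he]
    _ = _ := by group

theorem mem_of_simple_mem {T : Set I} {j : I} (h : cs.simple j ∈ WJ cs T) : j ∈ T := by
  refine F.descent_mem T _ h j ?_
  rw [cs.simple_mul_simple_self, cs.length_one, cs.length_simple]
  exact Nat.one_pos

/-- the set of the types `j''` in `T` with `b s_j = s_{j''} b` for some `j` in `J'` -/
def conjSet (cs : CoxeterSystem M W) (T J' : Set I) (b : W) : Set I :=
  {k | k ∈ T ∧ ∃ j ∈ J', b * cs.simple j = cs.simple k * b}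

section Step

variable {φ : W ≃* W} {σ : I → I} (hφ : ∀ i, φ (cs.simple i) = cs.simple (σ i))
  (hσ : ∀ i, σ (σ i) = i)

include hφ hσ

/-- The decomposition of a parallel element along a `σ`-orbit of right descents. -/
theorem exists_step {J J' : Set I} {w : W} (h : Par cs J J' w) (hJ : ∀ i ∈ J, σ i ∈ J)
    (hJ' : ∀ i ∈ J', σ i ∈ J') (hw : φ w = w) {i : I} (hi : ℓ (w * cs.simple i) < ℓ w)
    {T : Set I} (hT : T = J' ∪ {i, σ i}) :
    ∃ v b, w = v * b ∧ b ∈ WJ cs T ∧ IsMinR cs T v ∧ φ v = v ∧ φ b = b ∧ b ≠ 1 ∧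
      Par cs J (conjSet cs T J' b) v ∧ Par cs (conjSet cs T J' b) J' b ∧
      (∀ k ∈ conjSet cs T J' b, σ k ∈ conjSet cs T J' b) ∧ b * wJ cs J' = wJ cs T := by
  have hJ'T : J' ⊆ T := by rw [hT]; exact Set.subset_union_left
  have hiT : i ∈ T := by rw [hT]; right; simp
  have hσiT : σ i ∈ T := by rw [hT]; right; simp
  have hTσ : ∀ k ∈ T, σ k ∈ T := by
    intro k hk
    rw [hT] at hk
    rcases hk with hk | hk | hk
    · exact hJ'T (hJ' k hk)
    · rw [hk]; exact hσiT
    · rw [Set.mem_singleton_iff] at hk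
      rw [hk, hσ]; exact hiT
  obtain ⟨v, hv, b, hb, hvb⟩ := exists_isMinR cs T w
  have hφb : φ b ∈ WJ cs T := mem_WJ_map hφ hTσ hb
  have hφv : φ v = v := by
    refine hv.unique cs (map_isMinR hφ hσ hTσ hv) (u := b * (φ b)⁻¹) (mul_mem hb (inv_mem hφb)) ?_
    have h1 : φ v * φ b = v * b := by rw [← map_mul, ← hvb, hw]
    calc φ v = φ v * φ b * (φ b)⁻¹ := by group
      _ = v * b * (φ b)⁻¹ := by rw [h1]
      _ = _ := by group
  have hφbb : φ b = b := by
    have h1 : φ v * φ b = v * b := by rw [← map_mul, ← hvb, hw]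
    rw [hφv] at h1
    exact mul_left_cancel h1
  have hdesc : ∀ k ∈ T, (ℓ (b * cs.simple k) < ℓ b ↔ ℓ (w * cs.simple k) < ℓ w) := by
    intro k hk
    have h1 := hv _ (mul_mem hb (simple_mem_WJ cs hk))
    have h2 := hv b hb
    rw [← mul_assoc, ← hvb] at h1
    rw [← hvb] at h2
    omega
  have hbi : ℓ (b * cs.simple i) < ℓ b := (hdesc i hiT).2 hi
  have hbσi : ℓ (b * cs.simple (σ i)) < ℓ b := by
    rw [← length_map hφ hσ, map_mul, hφ, hσ, hφbb]
    exact hbi
  have hbR : IsMinR cs J' b := by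
    rw [isMinR_iff]
    intro j hj
    have h1 := (hdesc j (hJ'T hj)).not.2 (by
      have := h.minR _ (simple_mem_WJ cs hj)
      omega)
    have h2 := cs.length_mul_simple_ne b j
    omega
  -- the key: conjugates of the `s_j`
  have key : ∀ j ∈ J', ∀ k ∈ J, w * cs.simple j = cs.simple k * w →
      ∃ l ∈ T, b * cs.simple j = cs.simple l * b ∧ v * cs.simple l = cs.simple k * v := by
    intro j hj k hk he
    have hr : b * cs.simple j * b⁻¹ ∈ WJ cs T :=
      mul_mem (mul_mem hb (simple_mem_WJ cs (hJ'T hj))) (inv_mem hb)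
    have h1 : cs.simple k * v = v * (b * cs.simple j * b⁻¹) := by
      calc cs.simple k * v = (cs.simple k * (v * b)) * b⁻¹ := by group
        _ = (v * b * cs.simple j) * b⁻¹ := by rw [← hvb, ← he]
        _ = _ := by group
    have h2 := hv _ hr
    rw [← h1] at h2
    have h3 := cs.length_mul_le (cs.simple k) v
    rw [cs.length_simple] at h3
    have h4 : ℓ (b * cs.simple j * b⁻¹) = 1 := by
      have h5 : ℓ (b * cs.simple j * b⁻¹) ≠ 0 := by
        intro h6
        rw [cs.length_eq_zero_iff] at h6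
        have h7 : cs.simple j = 1 := by
          calc cs.simple j = b⁻¹ * (b * cs.simple j * b⁻¹) * b := by group
            _ = 1 := by rw [h6]; group
        have := cs.length_simple j
        rw [h7, cs.length_one] at this
        omega
      omega
    obtain ⟨l, hl⟩ := cs.length_eq_one_iff.1 h4
    refine ⟨l, mem_of_simple_mem (by rw [← hl]; exact hr), ?_, ?_⟩
    · rw [← hl]; group
    · rw [← hl]; exact h1.symm
  have hParb : Par cs (conjSet cs T J' b) J' b := by
    refine ⟨fun j hj => ?_, fun k hk => ?_, ?_, hbR⟩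
    · obtain ⟨k, hk, he⟩ := h.fwd j hj
      obtain ⟨l, hl, h1, _⟩ := key j hj k hk he
      exact ⟨l, ⟨hl, j, hj, h1⟩, h1⟩
    · obtain ⟨j, hj, he⟩ := hk.2
      exact ⟨j, hj, he.symm⟩
    · rw [isMinL_iff]
      rintro k ⟨_, j, hj, he⟩
      rw [← he, hbR _ (simple_mem_WJ cs hj), cs.length_simple]
      omega
  have hParv : Par cs J (conjSet cs T J' b) v := by
    have hfwd : ∀ l ∈ conjSet cs T J' b, ∃ k ∈ J, v * cs.simple l = cs.simple k * v := by
      rintro l ⟨hl, j, hj, he⟩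
      obtain ⟨k, hk, he'⟩ := h.fwd j hj
      obtain ⟨l', hl', h1, h2⟩ := key j hj k hk he'
      have h3 : cs.simple l = cs.simple l' := by
        rw [he] at h1
        exact mul_right_cancel h1
      rw [h3]
      exact ⟨k, hk, h2⟩
    have hbwd : ∀ k ∈ J, ∃ l ∈ conjSet cs T J' b, cs.simple k * v = v * cs.simple l := by
      intro k hk
      obtain ⟨j, hj, he⟩ := h.bwd k hk
      obtain ⟨l, hl, h1, h2⟩ := key j hj k hk he.symm
      exact ⟨l, ⟨hl, j, hj, h1⟩, h2.symm⟩
    refine ⟨hfwd, hbwd, ?_, ?_⟩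
    · rw [isMinL_iff]
      intro k hk
      obtain ⟨l, hl, he⟩ := hbwd k hk
      rw [he, hv _ (simple_mem_WJ cs hl.1), cs.length_simple]
      omega
    · intro u hu
      exact hv u (WJ_mono cs (fun l hl => hl.1) hu)
  refine ⟨v, b, hvb, hb, hv, hφv, hφbb, ?_, hParv, hParb, ?_, ?_⟩
  · rintro rfl
    rw [one_mul, cs.length_simple, cs.length_one] at hbi
    omega
  · rintro k ⟨hk, j, hj, he⟩
    refine ⟨hTσ k hk, σ j, hJ' j hj, ?_⟩
    have h1 := congrArg φ he
    rw [map_mul, map_mul, hφ, hφ, hφbb] at h1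
    exact h1
  · have hz : b * wJ cs J' = wJ cs (conjSet cs T J' b) * b := hParb.longest
    have hzT : b * wJ cs J' ∈ WJ cs T := mul_mem hb (WJ_mono cs hJ'T (F.wJ_mem J'))
    have hlz : ℓ (b * wJ cs J') = ℓ b + ℓ (wJ cs J') := hbR _ (F.wJ_mem J')
    have hlz' : ℓ (b * wJ cs J') = ℓ (wJ cs (conjSet cs T J' b)) + ℓ b := by
      rw [hz]; exact hParb.minL _ (F.wJ_mem _)
    have hd : ∀ k, ℓ (b * cs.simple k) < ℓ b → ℓ (b * wJ cs J' * cs.simple k) < ℓ (b * wJ cs J') := by
      intro k hk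
      have h1 := cs.length_mul_le (wJ cs (conjSet cs T J' b)) (b * cs.simple k)
      rw [← mul_assoc, ← hz] at h1
      omega
    refine F.eq_wJ_of_descents hzT fun k hk => ?_
    rw [hT] at hk
    rcases hk with hk | hk | hk
    · have h1 := hbR _ (mul_mem (F.wJ_mem J') (simple_mem_WJ cs hk))
      have h2 := F.len_wJ_mul (simple_mem_WJ cs hk)
      rw [cs.length_simple] at h2
      rw [mul_assoc]
      omega
    · rw [hk]; exact hd i hbi
    · rw [Set.mem_singleton_iff] at hk
      rw [hk]; exact hd (σ i) hbσi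

end Step

end Cfsg.Agent.FixBN.Cox
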