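import Cfsg.Agent.Nodes.BNOf
import Cfsg.Agent.Schreier.BNSch
set_option linter.all false

/-!
Root group data give split (B,N)-pairs in the sense of `Schreier.BNSch.Node`.
-/

set_option autoImplicit false
set_option linter.unusedSectionVars false

namespace Cfsg.Agent.FixBN.NodeRGD

open CoxeterSystem Cfsg.Agent.ChevalleyStructure.CoxeterGeom Cfsg.Agent.Tits.Roots Cfsg.Agent.Tits.Core
  Cfsg.Agent.Tits.RootComb Cfsg.Agent.Nodes.Comb Cfsg.Agent.Nodes.Reps Cfsg.Agent.Nodes.BNOf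
open scoped commutatorElement

variable {I W Y : Type*} [Fintype I] [DecidableEq I] [Group W] [Group Y] {M : CoxeterMatrix I}
  {cs : CoxeterSystem M W} {A : I → I → ℤ} {h : IsCartan M A} {p : ℕ} {T : Subgroup Y} {n : I → Y}
  {X : (I → ℤ) → Subgroup Y}

/-- A nontrivial element of `X (-α_i)` is not in `B`. -/
theorem not_mem_B_of_neg [Finite W] (R : RGD cs h p T n X) (i : I) {u : Y} (hu : u ∈ X (-sr i)) (hne : u ≠ 1) :
    u ∉ RGD.B cs h T X := by
  intro hB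
  obtain ⟨a, ha, t, ht, b, hb, e⟩ := R.rk1 i u hu hne
  have h1 : n i = (a * t)⁻¹ * u * b⁻¹ := by rw [e]; group
  have hX := RGD.X_le_B (T := T) (X := X) (isRoot_sr cs h i) (sr_nonneg i)
  have h2 : n i ∈ RGD.B cs h T X := by
    rw [h1]
    exact mul_mem (mul_mem (inv_mem (mul_mem (hX ha) (RGD.T_le_B ht))) hB) (inv_mem (hX hb))
  have h3 := R.eq_one_of_mem_B (rp_simple cs R.nsys i) h2
  have h4 := rep_simple_sr cs h i
  rw [h3, map_one, Module.End.one_apply] at h4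
  have h5 := congrFun h4 i
  rw [Pi.neg_apply, sr_self] at h5
  exact absurd h5 (by decide)

/-- `V_i` is normalised by `B`. -/
theorem B_le_normalizer_V (R : RGD cs h p T n X) (i : I) :
    RGD.B cs h T X ≤ Subgroup.normalizer (RGD.Sup X (RGD.PosNe cs h i) : Set Y) := by
  refine sup_le (R.T_le_normalizer fun _ hx => hx.1) ?_
  rw [R.Upos_eq i]
  exact sup_le (R.X_le_normalizer_V i) Subgroup.le_normalizer

theorem conj_V_mem (R : RGD cs h p T n X) (i : I) {v : Y} (hv : v ∈ RGD.Sup X (RGD.PosNe cs h i)) :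
    (n i)⁻¹ * v * n i ∈ RGD.Sup X (RGD.PosNe cs h i) := by
  have h1 := R.cj_n_V i
  have h2 : v ∈ cj (n i) (RGD.Sup X (RGD.PosNe cs h i)) := by rw [h1]; exact hv
  exact mem_cj.1 h2

theorem node [Finite W] (R : RGD cs h p T n X) (hgen : RGD.B cs h T X ⊔ NN cs R.nsys = ⊤) (i : I) :
    Cfsg.Agent.Schreier.BNSch.Node (R.bnPair hgen) (RGD.Sup X (RGD.Pos cs h)) (n i)
      (RGD.Sup X (RGD.PosNe cs h i)) where
  le := RGD.Sup_mono fun z hz => ⟨hz.1, hz.2.1⟩
  ne := by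
    by_contra hcon
    push Not at hcon
    apply R.not_neg_le_B i
    intro x hx
    have h0 : n i * n i ∈ T := R.sq_mem_T i
    have h1 : (n i)⁻¹ * x * n i ∈ X (sr i) := by
      have := R.conj_mem' (rp_simple cs R.nsys i) (isRoot_sr cs h i).neg hx
      rwa [inv_simple, map_neg, rep_simple_sr, neg_neg] at this
    have h2 := hcon _ (RGD.le_Sup (X := X) (S := RGD.Pos cs h) ⟨isRoot_sr cs h i, sr_nonneg i⟩ h1)
    have h3 : n i * ((n i)⁻¹ * x * n i) * (n i)⁻¹ ∈ cj (n i) (RGD.Sup X (RGD.PosNe cs h i)) :=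
      conj_mem_cj.2 h2
    rw [R.cj_n_V i] at h3
    have h4 : n i * ((n i)⁻¹ * x * n i) * (n i)⁻¹ = x := by group
    rw [h4] at h3
    exact RGD.U_le_B (RGD.Sup_mono (S := RGD.PosNe cs h i) (S' := RGD.Pos cs h) (fun z hz => ⟨hz.1, hz.2.1⟩) h3)
  conj_B := by
    intro b hb v hv
    have h1 := mem_normalizer_iff_cj.1 (B_le_normalizer_V R i hb)
    have h2 : b * v * b⁻¹ ∈ cj b (RGD.Sup X (RGD.PosNe cs h i)) := conj_mem_cj.2 hv
    rwa [h1] at h2
  conj_s := fun v hv => conj_V_mem R i hv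
  stab := by
    intro u hu hB
    have hBmem : (n i)⁻¹ * u * n i ∈ RGD.B cs h T X := hB
    rw [R.Upos_eq i] at hu
    have h1 : u ∈ ((X (sr i) ⊔ RGD.Sup X (RGD.PosNe cs h i) : Subgroup Y) : Set Y) := hu
    rw [Subgroup.coe_mul_of_left_le_normalizer_right _ _ (R.X_le_normalizer_V i), Set.mem_mul] at h1
    obtain ⟨x, hx, v, hv, e⟩ := h1
    have hx' : (n i)⁻¹ * x * n i ∈ X (-sr i) := by
      have := R.conj_mem' (rp_simple cs R.nsys i) (isRoot_sr cs h i) hx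
      rwa [inv_simple, rep_simple_sr] at this
    have hv' := conj_V_mem R i hv
    have hv'' : (n i)⁻¹ * v * n i ∈ RGD.B cs h T X :=
      RGD.U_le_B (RGD.Sup_mono (S := RGD.PosNe cs h i) (S' := RGD.Pos cs h) (fun z hz => ⟨hz.1, hz.2.1⟩) hv')
    have h2 : (n i)⁻¹ * x * n i ∈ RGD.B cs h T X := by
      have h3 : (n i)⁻¹ * x * n i = ((n i)⁻¹ * u * n i) * ((n i)⁻¹ * v * n i)⁻¹ := by rw [← e]; group
      rw [h3]
      exact mul_mem hBmem (inv_mem hv'')
    have h4 : (n i)⁻¹ * x * n i = 1 := by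
      by_contra hne
      exact not_mem_B_of_neg R i hx' hne h2
    have h5 : x = 1 := by
      have : x = n i * ((n i)⁻¹ * x * n i) * (n i)⁻¹ := by group
      rw [this, h4]; group
    rw [← e, h5, one_mul]
    exact hv

/-- every element of `B` is a product of an element of `U` and an element of `T = B ∩ N`. -/
theorem cover [Finite W] (R : RGD cs h p T n X) {b : Y} (hb : b ∈ RGD.B cs h T X) :
    ∃ u ∈ RGD.Sup X (RGD.Pos cs h), u⁻¹ * b ∈ T := by
  obtain ⟨t, ht, u, hu, rfl⟩ := R.mem_B.1 hb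
  have h1 := mem_normalizer_iff_cj.1 (R.T_le_normalizer_U ht)
  have h2 : t * u * t⁻¹ ∈ cj t (RGD.Sup X (RGD.Pos cs h)) := conj_mem_cj.2 hu
  rw [h1] at h2
  refine ⟨_, h2, ?_⟩
  have h3 : (t * u * t⁻¹)⁻¹ * (t * u) = t := by group
  rw [h3]; exact ht

/-- generation by root groups gives `⟨B, N⟩ = Y`. -/
theorem gen_of_top (R : RGD cs h p T n X) [Finite W]
    (hgen : (⨆ z : {x // IsRoot cs h x}, X z.1) = ⊤) : RGD.B cs h T X ⊔ NN cs R.nsys = ⊤ := by
  rw [eq_top_iff, ← hgen]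
  refine iSup_le ?_
  rintro ⟨x, w, i, rfl⟩
  obtain ⟨g, hg⟩ := exists_rp cs R.nsys w
  rw [← R.conj_rp hg (isRoot_sr cs h i)]
  intro y hy
  obtain ⟨a, ha, rfl⟩ := hy
  have hgN : g ∈ RGD.B cs h T X ⊔ NN cs R.nsys := (le_sup_right : NN cs R.nsys ≤ _) ⟨w, hg⟩
  have haB : a ∈ RGD.B cs h T X ⊔ NN cs R.nsys :=
    (le_sup_left : RGD.B cs h T X ≤ _) (RGD.X_le_B (isRoot_sr cs h i) (sr_nonneg i) ha)
  exact mul_mem (mul_mem hgN haB) (inv_mem hgN)

end Cfsg.Agent.FixBN.NodeRGD
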