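import Mathlib
import Cfsg.Agent.FixBN.Par
set_option linter.all false

-- part: FixBN/Trans
section
/-!
THEOREM FIX: transitivity on the good residues of a panel, parity.
-/

set_option autoImplicit false
set_option linter.unusedSectionVars false

open scoped Pointwise

namespace Cfsg.Agent.FixBN

open Cfsg.Agent.Tits.Core Cfsg.Agent.Tits.Core.Bldg Cfsg.Agent.Tits.Exchange Cfsg.Agent.Tits
open Cfsg.Agent.FixBN.Cox

variable {I : Type*} {M : CoxeterMatrix I} {W : Type*} [Group W] {cs : CoxeterSystem M W} {C : Type*}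

local prefix:100 "ℓ" => cs.length

/-! ### Residues at a given position -/

section SS

variable (Δ : Bldg cs C)

/-- The residues of type `J'` in position `b` with respect to the residue of type `J''` of `y1`. -/
def SS (J'' J' : Set I) (b : W) (y1 : C) : Set (Set C) :=
  {Z | ∃ y' ∈ Δ.Res J'' y1, ∃ z, Δ.δ y' z = b ∧ Z = Δ.Res J' z}

variable {Δ}

theorem mem_SS_of_δ {J'' J' : Set I} {b : W} {y1 z : C} (h : Δ.δ y1 z = b) :
    Δ.Res J' z ∈ SS Δ J'' J' b y1 := ⟨y1, Δ.self_mem_Res _ _, z, h, rfl⟩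

theorem SS_nonempty (J'' J' : Set I) (b : W) (y1 : C) : (SS Δ J'' J' b y1).Nonempty := by
  obtain ⟨z, hz⟩ := Δ.exists_δ y1 b
  exact ⟨_, mem_SS_of_δ hz⟩

theorem SS_all {J'' J' : Set I} {b : W} (hpar : Par cs J'' J' b) {y1 : C} {Z : Set C}
    (hZ : Z ∈ SS Δ J'' J' b y1) {y' : C} (hy' : y' ∈ Δ.Res J'' y1) :
    ∃ z, Δ.δ y' z = b ∧ Z = Δ.Res J' z := by
  obtain ⟨a, ha, z, haz, rfl⟩ := hZ
  obtain ⟨c, hc, hc'⟩ := par_transfer hpar haz (a := y')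
    (Δ.mem_Res_trans (Δ.mem_Res_symm ha) hy')
  exact ⟨c, hc', (Δ.Res_eq_of_mem hc).symm⟩

end SS

variable {Δ : Bldg cs C} {G : Type*} [Group G] [MulAction G C] {p : ℕ} {t : Tw Δ G}
  (S : Sys Δ G p) [F : OppRes.Cox cs]

namespace Sys

include S

theorem smul_Res_eq {u : G} {T : Set I} {y z : C} (hz : z ∈ Δ.Res T y) (hu : u • z = z) :
    u • Δ.Res T y = Δ.Res T y := by
  rw [← Δ.Res_eq_of_mem hz, S.smul_Res, hu]

/-- **Transitivity** of the unipotent radical of a residue on the residues at a given position. -/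
theorem trans_SS (hth : Δ.Thick) {J J'' J' T : Set I} {x y1 : C} {v b : W}
    (hxy : Δ.δ x y1 = v) (hpar : Par cs J J'' v) (hv : IsMinR cs T v) {φ : W ≃* W} {σ : I → I}
    (hAd : Ad cs φ σ T J'' J' b) {Z1 Z2 : Set C} (h1 : Z1 ∈ SS Δ J'' J' b y1)
    (h2 : Z2 ∈ SS Δ J'' J' b y1) :
    ∃ u ∈ S.UR (Δ.Res J x), u • Δ.Res T y1 = Δ.Res T y1 ∧ u • Z1 = Z2 := by
  obtain ⟨y2, hy2⟩ := Δ.exists_δ y1 (wJ cs J'')
  have hy2' : y2 ∈ Δ.Res J'' y1 := by rw [mem_Res, hy2]; exact F.wJ_mem J''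
  obtain ⟨z1, hz1, rfl⟩ := SS_all hAd.par h1 hy2'
  obtain ⟨z2, hz2, rfl⟩ := SS_all hAd.par h2 hy2'
  -- lengths
  have hJ''T : wJ cs J'' ∈ WJ cs T := WJ_mono cs hAd.sub'' (F.wJ_mem J'')
  have hl1 : ℓ (v * wJ cs J'') = ℓ v + ℓ (wJ cs J'') := hv _ hJ''T
  have hl2 : ℓ (wJ cs J'' * b) = ℓ (wJ cs J'') + ℓ b := hAd.par.minL _ (F.wJ_mem J'')
  have hl3 : ℓ (v * wJ cs J'' * b) = ℓ (v * wJ cs J'') + ℓ b := by
    rw [mul_assoc, hv _ (mul_mem hJ''T hAd.mem), hl1, hl2]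
    omega
  have hl4 : ℓ (wJ cs J * v) = ℓ (wJ cs J) + ℓ v := hpar.minL _ (F.wJ_mem J)
  have hd : Δ.δ x y2 = v * wJ cs J'' := Δ.δ_mul_of hxy hy2 hl1
  have hd1 : Δ.δ x z1 = v * wJ cs J'' * b := Δ.δ_mul_of hd hz1 hl3
  have hd2 : Δ.δ x z2 = v * wJ cs J'' * b := Δ.δ_mul_of hd hz2 hl3
  obtain ⟨u, hu, huz⟩ := S.exists_move (hd1.trans hd2.symm)
  have hux : u • x = x := S.fix x u hu
  have huy2 : u • y2 = y2 := by
    refine Δ.between_unique hl3 (x := x) (z := z2) ?_ ?_ hd hz2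
    · rw [← hd, ← S.iso u x y2, hux]
    · rw [← huz, S.iso, hz1]
  obtain ⟨x', hx', hx''⟩ := Δ.exists_between (x := x) (z := y2) (v := wJ cs J) (w := v)
    (by rw [hd, hpar.longest]) hl4
  have hux' : u • x' = x' := by
    refine Δ.between_unique hl4 (x := x) (z := y2) ?_ ?_ hx' hx''
    · rw [← hx', ← S.iso u x x', hux]
    · rw [← hx'', ← S.iso u x' y2, huy2]
  refine ⟨u, S.mem_UR_of_fix hth hu hx' hux', ?_, ?_⟩
  · exact S.smul_Res_eq (Δ.Res_mono hAd.sub'' _ hy2') huy2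
  · rw [S.smul_Res, huz]

omit F in
theorem τ_mem_U (t : Tw Δ G) {g : G} {x : C} (hg : g ∈ S.U x) : t.τ g ∈ S.U (t.θ x) := by
  have h1 : IsPGroup p ((S.U x).map t.τ.toMonoidHom) := (S.isP x).map _
  refine S.max (t.θ x) _ h1 ?_ ⟨g, hg, rfl⟩
  rintro _ ⟨v, hv, rfl⟩
  change t.τ v • t.θ x = t.θ x
  rw [← t.θ_smul, S.fix x v hv]

omit F in
theorem τ_mem_UR (t : Tw Δ G) {g : G} {Q : Set C} (hQ : ∀ x ∈ Q, t.θ x ∈ Q) (hg : g ∈ S.UR Q) :
    t.τ g ∈ S.UR Q := by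
  intro y hy
  have := S.τ_mem_U t (hg (t.θ y) (hQ y hy))
  rwa [t.θθ] at this

omit F in
theorem odd_card [Finite G] [hp : Fact p.Prime] (hp2 : p ≠ 2) {A : Subgroup G} (hA : IsPGroup p A) :
    Odd (Nat.card A) := by
  obtain ⟨n, hn⟩ := IsPGroup.iff_card.1 hA
  rw [hn]
  exact (hp.out.odd_of_ne_two hp2).pow

end Sys

namespace Tw

theorem gd_smul (S : Sys Δ G p) {J : Set I} {x : C} (h : t.Gd J x) {g : G} (hg : g ∈ t.cent) :
    t.Gd J (g • x) := by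
  refine ⟨h.1, fun y hy => ?_⟩
  have h1 : g⁻¹ • y ∈ Δ.Res J x := by
    have := S.smul_mem_Res (g := g⁻¹) hy
    rwa [inv_smul_smul] at this
  have h2 := h.2 _ h1
  have h3 : t.θ (g⁻¹ • y) = g⁻¹ • t.θ y := by
    rw [t.θ_smul, map_inv, t.mem_cent.1 hg]
  rw [h3, S.iso] at h2
  exact h2

theorem image_Gd {J : Set I} {x : C} (h : t.Gd J x) : t.θ '' Δ.Res J x = Δ.Res J x := by
  rw [t.image_Res h.1]
  exact Δ.Res_eq_of_mem h.θ_mem

/-- The good residues in the residue of type `T` of `y`. -/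
def Gds (t : Tw Δ G) (T : Set I) (y : C) : Set (Set C) :=
  {Z | ∃ J z, J ⊆ T ∧ z ∈ Δ.Res T y ∧ t.Gd J z ∧ Z = Δ.Res J z}

theorem Gds_congr {T : Set I} {y y' : C} (h : y' ∈ Δ.Res T y) : t.Gds T y' = t.Gds T y := by
  unfold Gds
  rw [Δ.Res_eq_of_mem h]

theorem smul_mem_Gds (S : Sys Δ G p) {T : Set I} {y : C} {g : G} (hg : g ∈ t.cent)
    (hgM : g • Δ.Res T y = Δ.Res T y) {Z : Set C} (hZ : Z ∈ t.Gds T y) : g • Z ∈ t.Gds T y := by
  obtain ⟨J, z, hJ, hz, hgd, rfl⟩ := hZ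
  refine ⟨J, g • z, hJ, ?_, gd_smul S hgd hg, S.smul_Res g J z⟩
  rw [← hgM]
  exact Set.smul_mem_smul_set hz

theorem gd_of_SS {J'' J' T : Set I} {b : W} {y1 : C} (hAd : Ad cs t.φ t.σ T J'' J' b)
    (hgd : t.Gd J'' y1) {z : C} (hz : Δ.Res J' z ∈ SS Δ J'' J' b y1)
    (hθ : t.θ '' Δ.Res J' z = Δ.Res J' z) : t.Gd J' z := by
  obtain ⟨z', hz', he⟩ := SS_all hAd.par hz (Δ.self_mem_Res _ _)
  have hzz : z ∈ Δ.Res J' z' := by rw [← he]; exact Δ.self_mem_Res _ _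
  have h1 : t.Gd J' z' := by
    refine gd_transfer hgd hAd.par hz' hAd.fix hAd.st' ?_
    rw [← he, ← hθ]
    exact ⟨z', by rw [he]; exact Δ.self_mem_Res _ _, rfl⟩
  exact h1.congr hzz

/-- A panel: `T` is `K` plus one orbit of the type permutation. -/
structure PD (t : Tw Δ G) (T K K' : Set I) (b : W) (z : C) : Prop where
  ad : Ad cs t.φ t.σ T K K' b
  ne : b ≠ 1
  pan : ∃ k, T = K ∪ {k, t.σ k}
  gd : t.Gd K z

theorem SS_sub {J'' J' T : Set I} {b : W} {y1 : C} (hAd : Ad cs t.φ t.σ T J'' J' b)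
    (hgd : t.Gd J'' y1) {Z : Set C} (hZ : Z ∈ SS Δ J'' J' b y1) (hθ : t.θ '' Z = Z) :
    Z ∈ t.Gds T y1 := by
  obtain ⟨z, hz, rfl⟩ := SS_all hAd.par hZ (Δ.self_mem_Res _ _)
  exact ⟨J', z, hAd.sub', by rw [mem_Res, hz]; exact hAd.mem, gd_of_SS hAd hgd hZ hθ, rfl⟩

theorem not_mem_SS {J'' J' T : Set I} {b : W} {y1 : C} (hAd : Ad cs t.φ t.σ T J'' J' b)
    (hb : b ≠ 1) : Δ.Res J'' y1 ∉ SS Δ J'' J' b y1 := by
  intro h
  obtain ⟨z, hz, he⟩ := SS_all hAd.par h (Δ.self_mem_Res _ _)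
  have h1 : z ∈ Δ.Res J'' y1 := by rw [he]; exact Δ.self_mem_Res _ _
  rw [mem_Res, hz] at h1
  exact hb (hAd.par.eq_one_of_mem h1)

theorem PD.mem_SS {T K K' : Set I} {b : W} {y : C} (h : t.PD T K K' b y) {Z : Set C}
    (hZ : Z ∈ t.Gds T y) (hne : Z ≠ Δ.Res K y) : Z ∈ SS Δ K K' b y := by
  obtain ⟨J, z, hJ, hz, hgd, rfl⟩ := hZ
  obtain ⟨a, ha, c, hc, hpar, hφ⟩ := parallel h.gd hgd
  have haT : a ∈ Δ.Res T y := Δ.Res_mono h.ad.sub'' y ha
  have hcT : c ∈ Δ.Res T y := Δ.mem_Res_trans hz (Δ.Res_mono hJ z hc)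
  have hT : Δ.δ a c ∈ WJ cs T := Δ.δ_mem_of_mem_Res haT hcT
  have h1 : Δ.δ a c ≠ 1 := by
    intro h1
    apply hne
    rw [h1] at hpar
    have h2 := hpar.eq_of_one
    have h3 := Δ.eq_of_δ_eq_one h1
    rw [← Δ.Res_eq_of_mem hc, ← Δ.Res_eq_of_mem ha, h2, h3]
  obtain ⟨k, hk⟩ := h.pan
  obtain ⟨h2, h3⟩ := h.ad.eq_of_par t.φ_simple t.σσ hk hpar hJ hT hφ h1
  refine ⟨a, ha, c, h2, ?_⟩
  rw [← h3, Δ.Res_eq_of_mem hc]

theorem PD.Gds_eq {T K K' : Set I} {b : W} {y : C} (h : t.PD T K K' b y) :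
    t.Gds T y = insert (Δ.Res K y) {Z | Z ∈ SS Δ K K' b y ∧ t.θ '' Z = Z} := by
  ext Z
  constructor
  · intro hZ
    by_cases hne : Z = Δ.Res K y
    · left; exact hne
    · right
      refine ⟨h.mem_SS hZ hne, ?_⟩
      obtain ⟨J, z, hJ, hz, hgd, rfl⟩ := hZ
      exact image_Gd hgd
  · rintro (hZ | hZ)
    · exact ⟨K, y, h.ad.sub'', Δ.self_mem_Res _ _, h.gd, hZ⟩
    · exact SS_sub h.ad h.gd hZ.1 hZ.2

/-- Each good residue of a panel has panel data. -/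
theorem PD.of_mem {T K K' : Set I} {b : W} {y : C} (h : t.PD T K K' b y) {Z : Set C}
    (hZ : Z ∈ t.Gds T y) :
    ∃ L L' c z, Z = Δ.Res L z ∧ z ∈ Δ.Res T y ∧ t.PD T L L' c z := by
  by_cases hne : Z = Δ.Res K y
  · exact ⟨K, K', b, y, hne, Δ.self_mem_Res _ _, h⟩
  · have h1 := h.mem_SS hZ hne
    obtain ⟨z, hz, rfl⟩ := SS_all h.ad.par h1 (Δ.self_mem_Res _ _)
    have hθ : t.θ '' Δ.Res K' z = Δ.Res K' z := by
      obtain ⟨J, z', hJ, hz', hgd, he⟩ := hZ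
      rw [he]; exact image_Gd hgd
    refine ⟨K', K, b⁻¹, z, rfl, ?_, h.ad.symm, ?_, ?_, gd_of_SS h.ad h.gd h1 hθ⟩
    · rw [mem_Res, hz]; exact h.ad.mem
    · rw [Ne, inv_eq_one]; exact h.ne
    · obtain ⟨k, hk⟩ := h.pan
      exact h.ad.symm.panel t.φ_simple t.σσ hk

variable [Finite G] [hp : Fact p.Prime]

/-- Transitivity in the centraliser. -/
theorem trans_SS (S : Sys Δ G p) (hth : Δ.Thick) (hp2 : p ≠ 2) {J J'' J' T : Set I} {x y1 : C}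
    {v b : W} (hgx : t.Gd J x) (hxy : Δ.δ x y1 = v) (hpar : Par cs J J'' v)
    (hv : IsMinR cs T v) (hAd : Ad cs t.φ t.σ T J'' J' b) (hy : t.θ y1 ∈ Δ.Res T y1)
    {Z1 Z2 : Set C} (h1 : Z1 ∈ SS Δ J'' J' b y1) (h2 : Z2 ∈ SS Δ J'' J' b y1)
    (hθ1 : t.θ '' Z1 = Z1) (hθ2 : t.θ '' Z2 = Z2) :
    ∃ u ∈ t.cent, u ∈ S.UR (Δ.Res J x) ∧ u • Δ.Res T y1 = Δ.Res T y1 ∧ u • Z1 = Z2 := by
  obtain ⟨u, hu, huM, huZ⟩ := S.trans_SS hth hxy hpar hv hAd h1 h2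
  have hM : t.θ '' Δ.Res T y1 = Δ.Res T y1 := by
    rw [t.image_Res hAd.stT]
    exact Δ.Res_eq_of_mem hy
  obtain ⟨a, ha, hac, haZ⟩ := t.exists_cent (S.UR (Δ.Res J x) ⊓ MulAction.stabilizer G (Δ.Res T y1))
    (fun a ha => ⟨S.τ_mem_UR t hgx.θ_stable ha.1, by
      have h3 : a • Δ.Res T y1 = Δ.Res T y1 := ha.2
      change t.τ a • Δ.Res T y1 = Δ.Res T y1
      have h4 := t.image_smul a (Δ.Res T y1)
      rw [h3, hM] at h4
      exact h4.symm⟩)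
    (S.odd_card hp2 ((S.UR_isP ⟨x, Δ.self_mem_Res _ _⟩).to_le inf_le_left))
    hθ1 hθ2 ⟨u, ⟨hu, huM⟩, huZ⟩
  exact ⟨a, hac, ha.1, ha.2, haZ⟩

variable [Finite C]

theorem card_SS_odd (S : Sys Δ G p) (hth : Δ.Thick) (hp2 : p ≠ 2) {J'' J' T : Set I} {y1 : C}
    {b : W} (hAd : Ad cs t.φ t.σ T J'' J' b) (hgd : t.Gd J'' y1) :
    Odd {Z | Z ∈ SS Δ J'' J' b y1 ∧ t.θ '' Z = Z}.ncard := by
  classical
  have hodd : Odd (SS Δ J'' J' b y1).ncard := by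
    obtain ⟨Z, hZ⟩ := SS_nonempty (Δ := Δ) J'' J' b y1
    have h1 : SS Δ J'' J' b y1 = MulAction.orbit (S.UR (Δ.Res J'' y1)) Z := by
      ext Z'
      constructor
      · intro hZ'
        obtain ⟨u, hu, _, huZ⟩ := S.trans_SS hth (T := T) (Δ.δ_self y1) (par_one J'')
          (isMinR_one cs T) hAd hZ hZ'
        exact ⟨⟨u, hu⟩, huZ⟩
      · rintro ⟨⟨u, hu⟩, rfl⟩
        obtain ⟨z, hz, rfl⟩ := SS_all hAd.par hZ (Δ.self_mem_Res _ _)
        refine ⟨y1, Δ.self_mem_Res _ _, u • z, ?_, S.smul_Res u J' z⟩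
        rw [← hz, ← S.iso u y1 z, S.fix y1 u (hu y1 (Δ.self_mem_Res _ _))]
    rw [h1, ← MulAction.index_stabilizer]
    exact (S.odd_card hp2 (S.UR_isP ⟨y1, Δ.self_mem_Res _ _⟩)).of_dvd_nat
      (Subgroup.index_dvd_card _)
  let f : SS Δ J'' J' b y1 → SS Δ J'' J' b y1 := fun Z => ⟨t.θ '' Z.1, by
    obtain ⟨y', hy', z, hz, he⟩ := Z.2
    refine ⟨t.θ y', hgd.θ_stable y' hy', t.θ z, ?_, ?_⟩
    · rw [t.δ_θ, hz, hAd.fix]
    · rw [he, t.image_Res hAd.st']⟩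
  have hf : ∀ Z, f (f Z) = Z := by
    intro Z
    apply Subtype.ext
    change t.θ '' (t.θ '' Z.1) = Z.1
    rw [Set.image_image]
    simp only [t.θθ, Set.image_id']
  have h1 := card_fixed_modEq f hf
  have h2 : Nat.card {Z // f Z = Z} = {Z | Z ∈ SS Δ J'' J' b y1 ∧ t.θ '' Z = Z}.ncard := by
    rw [← Nat.card_coe_set_eq]
    refine Nat.card_congr ⟨fun Z => ⟨Z.1.1, Z.1.2, congrArg Subtype.val Z.2⟩,
      fun Z => ⟨⟨Z.1, Z.2.1⟩, Subtype.ext Z.2.2⟩, fun Z => rfl, fun Z => rfl⟩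
  rw [h2, Nat.card_coe_set_eq] at h1
  rw [Nat.odd_iff] at hodd ⊢
  unfold Nat.ModEq at h1
  omega

theorem PD.even (S : Sys Δ G p) (hth : Δ.Thick) (hp2 : p ≠ 2) {T K K' : Set I} {b : W} {y : C}
    (h : t.PD T K K' b y) : Even (t.Gds T y).ncard := by
  rw [h.Gds_eq, Set.ncard_insert_of_notMem (fun h1 => not_mem_SS h.ad h.ne h1.1)]
  exact (card_SS_odd S hth hp2 h.ad h.gd).add_one

theorem PD.θ_mem {T K K' : Set I} {b : W} {y : C} (h : t.PD T K K' b y) : t.θ y ∈ Δ.Res T y :=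
  Δ.Res_mono h.ad.sub'' y h.gd.θ_mem

/-- Transitivity on the good residues of a panel except one. -/
theorem PD.trans (S : Sys Δ G p) (hth : Δ.Thick) (hp2 : p ≠ 2) {T K K' : Set I} {b : W} {y : C}
    (h : t.PD T K K' b y) {Z1 Z2 : Set C} (h1 : Z1 ∈ t.Gds T y) (h2 : Z2 ∈ t.Gds T y)
    (hn1 : Z1 ≠ Δ.Res K y) (hn2 : Z2 ≠ Δ.Res K y) :
    ∃ u ∈ t.cent, u ∈ S.UR (Δ.Res K y) ∧ u • Δ.Res T y = Δ.Res T y ∧ u • Z1 = Z2 := by
  have hθ : ∀ Z ∈ t.Gds T y, t.θ '' Z = Z := by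
    rintro _ ⟨J, z, hJ, hz, hgd, rfl⟩
    exact image_Gd hgd
  exact trans_SS S hth hp2 h.gd (Δ.δ_self y) (par_one K) (isMinR_one cs T) h.ad h.θ_mem
    (h.mem_SS h1 hn1) (h.mem_SS h2 hn2) (hθ _ h1) (hθ _ h2)

/-- **Parity**: a normal subgroup of odd order of the centraliser fixes all the good residues of the
panels which it stabilises. -/
theorem PD.fixes (S : Sys Δ G p) (hth : Δ.Thick) (hp2 : p ≠ 2) {T K K' : Set I} {b : W} {y : C}
    (h : t.PD T K K' b y) {X : Subgroup G} (hX : X ≤ t.cent)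
    (hnorm : ∀ g ∈ t.cent, ∀ x ∈ X, g * x * g⁻¹ ∈ X) (hodd : Odd (Nat.card X)) {g : G}
    (hg : g ∈ X) (hgM : g • Δ.Res T y = Δ.Res T y) {Z : Set C} (hZ : Z ∈ t.Gds T y) :
    g • Z = Z := by
  classical
  by_contra hne
  have hgZ : g • Z ∈ t.Gds T y := smul_mem_Gds S (hX hg) hgM hZ
  let XM : Subgroup G := X ⊓ MulAction.stabilizer G (Δ.Res T y)
  have h1 : t.Gds T y = MulAction.orbit XM Z := by
    ext Z'
    constructor
    · intro hZ'
      by_cases he : Z' = Z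
      · rw [he]; exact MulAction.mem_orbit_self Z
      obtain ⟨L, L', c, z, rfl, hz, hPD⟩ := h.of_mem hZ
      rw [← Gds_congr hz] at hZ' hgZ
      obtain ⟨u, huc, hu, huM, huZ⟩ := hPD.trans S hth hp2 hgZ hZ' hne he
      have huL : u • Δ.Res L z = Δ.Res L z := by
        rw [S.smul_Res, S.fix z u (hu z (Δ.self_mem_Res _ _))]
      rw [Δ.Res_eq_of_mem hz] at huM
      have huM' : u⁻¹ • Δ.Res T y = Δ.Res T y := by rw [inv_smul_eq_iff, huM]
      refine ⟨⟨u * g * u⁻¹, hnorm u huc g hg, ?_⟩, ?_⟩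
      · change (u * g * u⁻¹) • Δ.Res T y = Δ.Res T y
        rw [mul_smul, mul_smul, huM', hgM, huM]
      · change (u * g * u⁻¹) • Δ.Res L z = Z'
        have huL' : u⁻¹ • Δ.Res L z = Δ.Res L z := by rw [inv_smul_eq_iff, huL]
        rw [mul_smul, mul_smul, huL', huZ]
    · rintro ⟨⟨a, ha⟩, rfl⟩
      exact smul_mem_Gds S (hX ha.1) ha.2 hZ
  have h2 := h.even S hth hp2
  rw [h1, ← MulAction.index_stabilizer] at h2
  have h3 : Odd (Nat.card XM) := hodd.of_dvd_nat (Subgroup.card_dvd_of_le inf_le_left)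
  have h4 : Odd (MulAction.stabilizer XM Z).index := h3.of_dvd_nat (Subgroup.index_dvd_card _)
  exact (Nat.not_even_iff_odd.2 h4) h2

end Tw

end Cfsg.Agent.FixBN
end

-- part: FixBN/Fix
section
/-!
**THEOREM FIX**: a normal subgroup of odd order of the centraliser of the involutory automorphism
is a `p'`-group and centralises all the `p`-subgroups of the centraliser.
-/

set_option autoImplicit false
set_option linter.unusedSectionVars false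

open scoped Pointwise

namespace Cfsg.Agent.FixBN

open Cfsg.Agent.Tits.Core Cfsg.Agent.Tits.Core.Bldg Cfsg.Agent.Tits.Exchange Cfsg.Agent.Tits
open Cfsg.Agent.FixBN.Cox

variable {I : Type*} {M : CoxeterMatrix I} {W : Type*} [Group W] {cs : CoxeterSystem M W} {C : Type*}

local prefix:100 "ℓ" => cs.length

variable {Δ : Bldg cs C} {G : Type*} [Group G] [MulAction G C] {p : ℕ} {t : Tw Δ G}
  [F : OppRes.Cox cs]

theorem Sys.mem_UR_of_stab (S : Sys Δ G p) {K K' : Set I} {b : W} {y : C} (hpar : Par cs K K' b)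
    {Z : Set C} (hZ : Z ∈ SS Δ K K' b y) {u : G} (hu : u ∈ S.UR (Δ.Res K y)) (huZ : u • Z = Z) :
    u ∈ S.UR Z := by
  intro c hc
  obtain ⟨y', hy', z, hz, rfl⟩ := hZ
  obtain ⟨a, ha, hac⟩ := par_transfer hpar.symm (x := z) (y := y') (a := c)
    (by rw [Δ.symm y' z, hz]) hc
  have hac' : Δ.δ a c = b := by rw [Δ.symm c a, hac, inv_inv]
  have haK : a ∈ Δ.Res K y := Δ.mem_Res_trans hy' ha
  have hua : u • a = a := S.fix a u (hu a haK)
  have h1 : Δ.δ a (u • c) = b := by rw [← hac', ← S.iso u a c, hua]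
  have h2 : u • c ∈ Δ.Res K' z := by rw [← huZ]; exact Set.smul_mem_smul_set hc
  have h3 : u • c = c :=
    eq_of_isMinR hpar.minR hac' h1 (by rw [Δ.Res_eq_of_mem hc]; exact h2)
  exact S.mem_U_of_fix (hu a haK) h3

namespace Tw

/-- The `p`-subgroup of the centraliser attached to a good residue. -/
def P (t : Tw Δ G) (S : Sys Δ G p) (Q : Set C) : Subgroup G := t.cent ⊓ S.UR Q

omit F in
theorem mem_P {S : Sys Δ G p} {Q : Set C} {g : G} :
    g ∈ t.P S Q ↔ g ∈ t.cent ∧ g ∈ S.UR Q := Iff.rfl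

omit F in
theorem P_isP (S : Sys Δ G p) {Q : Set C} (hQ : Q.Nonempty) : IsPGroup p (t.P S Q) :=
  (S.UR_isP hQ).to_le inf_le_right

omit F in
theorem smul_of_mem_UR (S : Sys Δ G p) {J : Set I} {x : C} {u : G} (hu : u ∈ S.UR (Δ.Res J x)) :
    u • Δ.Res J x = Δ.Res J x := by
  rw [S.smul_Res, S.fix x u (hu x (Δ.self_mem_Res _ _))]

/-- The residue of type `T` containing a stabilised residue of smaller type is stabilised. -/
theorem smul_Res_of_sub (S : Sys Δ G p) {K T : Set I} (hK : K ⊆ T) {z : C} {c : G}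
    (h : c • Δ.Res K z = Δ.Res K z) : c • Δ.Res T z = Δ.Res T z := by
  have h1 : c • z ∈ Δ.Res K z := by
    rw [← h]; exact Set.smul_mem_smul_set (Δ.self_mem_Res _ _)
  rw [S.smul_Res]
  exact Δ.Res_eq_of_mem (Δ.Res_mono hK z h1)

variable [Finite G] [hp : Fact p.Prime] [Finite C]

theorem PD.card_P (S : Sys Δ G p) (hth : Δ.Thick) (hp2 : p ≠ 2) {T K K' : Set I} {b : W} {y : C}
    (h : t.PD T K K' b y) {Z : Set C} (hZ : Z ∈ t.Gds T y) (hne : Z ≠ Δ.Res K y) :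
    Nat.card ↥(t.P S (Δ.Res K y)) =
      Nat.card ↥(t.P S (Δ.Res K y) ⊓ t.P S Z) * (t.Gds T y \ {Δ.Res K y}).ncard := by
  classical
  have h1 : t.Gds T y \ {Δ.Res K y} = MulAction.orbit (t.P S (Δ.Res K y)) Z := by
    ext Z'
    constructor
    · rintro ⟨hZ', hne'⟩
      obtain ⟨u, huc, hu, _, huZ⟩ := h.trans S hth hp2 hZ hZ' hne hne'
      exact ⟨⟨u, huc, hu⟩, huZ⟩
    · rintro ⟨⟨u, huc, hu⟩, rfl⟩
      have hue : u • Δ.Res K y = Δ.Res K y := smul_of_mem_UR S hu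
      refine ⟨smul_mem_Gds S huc (smul_Res_of_sub S h.ad.sub'' hue) hZ, fun h2 => hne ?_⟩
      have h3 : u • Z = u • Δ.Res K y := by rw [hue]; exact h2
      exact smul_left_cancel u h3
  have h2 : Nat.card ↥(t.P S (Δ.Res K y) ⊓ t.P S Z) =
      Nat.card (MulAction.stabilizer (t.P S (Δ.Res K y)) Z) := by
    refine Nat.card_congr ⟨fun u => ⟨⟨u.1, u.2.1⟩, ?_⟩, fun u => ⟨u.1.1, u.1.2, u.1.2.1, ?_⟩,
      fun u => rfl, fun u => rfl⟩
    · change u.1 • Z = Z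
      obtain ⟨J, z, hJ, hz, hgd, rfl⟩ := hZ
      exact smul_of_mem_UR S u.2.2.2
    · exact S.mem_UR_of_stab h.ad.par (h.mem_SS hZ hne) u.1.2.2 u.2
  rw [h1, h2, ← MulAction.index_stabilizer, Subgroup.card_mul_index]

theorem PD.card_eq (S : Sys Δ G p) (hth : Δ.Thick) (hp2 : p ≠ 2) {T K K' : Set I} {b : W} {y : C}
    (h : t.PD T K K' b y) {Z : Set C} (hZ : Z ∈ t.Gds T y) :
    Nat.card ↥(t.P S Z) = Nat.card ↥(t.P S (Δ.Res K y)) := by
  classical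
  by_cases hne : Z = Δ.Res K y
  · rw [hne]
  have h1 := h.card_P S hth hp2 hZ hne
  obtain ⟨L, L', c, z, rfl, hz, hPD⟩ := h.of_mem hZ
  have hK : Δ.Res K y ∈ t.Gds T z := by
    rw [Gds_congr hz]
    exact ⟨K, y, h.ad.sub'', Δ.self_mem_Res _ _, h.gd, rfl⟩
  have h2 := hPD.card_P S hth hp2 hK (Ne.symm hne)
  have h3 : (t.Gds T z \ {Δ.Res L z}).ncard = (t.Gds T y \ {Δ.Res K y}).ncard := by
    have hfin : (t.Gds T y).Finite := Set.toFinite _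
    rw [Gds_congr hz] at hK ⊢
    have e1 := Set.ncard_sdiff_singleton_add_one hZ hfin
    have e2 := Set.ncard_sdiff_singleton_add_one hK hfin
    omega
  rw [h1, h2, h3, inf_comm]

/-- The panel data of the first step from `y` towards `x`. -/
theorem exists_PD {J J' : Set I} {x y : C} (h : t.Gd J x) (h' : t.Gd J' y)
    (hpar : Par cs J J' (Δ.δ x y)) (hφ : t.φ (Δ.δ x y) = Δ.δ x y) (hne : Δ.δ x y ≠ 1) :
    ∃ (T J'' : Set I) (v b : W) (y1 : C), Δ.δ x y1 = v ∧ Δ.δ y1 y = b ∧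
      ℓ v < ℓ (Δ.δ x y) ∧ IsMinR cs T v ∧ t.φ v = v ∧ Par cs J J'' v ∧ t.PD T J'' J' b y1 ∧
      t.PD T J' J'' b⁻¹ y ∧ Δ.Res J' y ∈ t.Gds T y1 ∧ Δ.Res J' y ≠ Δ.Res J'' y1 ∧
      y ∈ Δ.Res T y1 := by
  obtain ⟨T, J'', v, b, i, y1, h1, h2, h3, h4, h5, h6, h7, h8, h9, h10⟩ :=
    exists_towards h h' hpar hφ hne
  have hy : y ∈ Δ.Res T y1 := by rw [mem_Res, h2]; exact h7.mem
  refine ⟨T, J'', v, b, y1, h1, h2, h3, h4, h5, h6, ⟨h7, h9, ?_, h10⟩,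
    ⟨h7.symm, by rwa [Ne, inv_eq_one], ⟨i, h8⟩, h'⟩, ⟨J', y, h7.sub', hy, h', rfl⟩, ?_, hy⟩
  · exact h7.panel t.φ_simple t.σσ h8
  · intro he
    have h11 := not_mem_SS h7 (y1 := y1) h9
    rw [← he] at h11
    exact h11 (mem_SS_of_δ h2)

theorem card_P_const (S : Sys Δ G p) (hth : Δ.Thick) (hp2 : p ≠ 2) {J J' : Set I} {x y : C}
    (h : t.Gd J x) (h' : t.Gd J' y) :
    Nat.card ↥(t.P S (Δ.Res J' y)) = Nat.card ↥(t.P S (Δ.Res J x)) := by
  obtain ⟨x', hx', y', hy', hpar, hφ⟩ := parallel h h'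
  rw [← Δ.Res_eq_of_mem hx', ← Δ.Res_eq_of_mem hy']
  replace h := h.congr hx'
  replace h' := h'.congr hy'
  clear hx' hy'
  induction hn : ℓ (Δ.δ x' y') using Nat.strong_induction_on generalizing J' y' with
  | _ n ih =>
    by_cases hne : Δ.δ x' y' = 1
    · rw [hne] at hpar
      rw [← hpar.eq_of_one, Δ.eq_of_δ_eq_one hne]
    · obtain ⟨T, J'', v, b, y1, h1, h2, h3, h4, h5, h6, h7, h8, h9, h10, h11⟩ :=
        exists_PD h h' hpar hφ hne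
      rw [← h1] at h3 h5 h6
      rw [h7.card_eq S hth hp2 h9]
      exact ih _ (by rw [← hn]; exact h3) y1 h6 h5 h7.gd rfl

/-- Each `p`-subgroup of the centraliser is contained in one of the groups `P Q`. -/
theorem exists_P (S : Sys Δ G p) (hth : Δ.Thick) {V : Subgroup G} (hV : V ≤ t.cent)
    (hVp : IsPGroup p V) : ∃ J x, t.Gd J x ∧ V ≤ t.P S (Δ.Res J x) := by
  obtain ⟨x0, hx0⟩ := S.exists_fix V hVp
  obtain ⟨c, hc, J, hJ, hcJ, hmin⟩ := t.disp (X := {x : C | ∀ v ∈ (V : Set G), v • x = x})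
    ⟨x0, hx0⟩ (by
      intro x hx v hv
      have h1 := t.θ_smul v x
      rw [hx v hv, t.mem_cent.1 (hV hv)] at h1
      exact h1.symm) (S.conv_fix _)
  have hcθ : t.θ c ∈ Δ.Res J c := by rw [mem_Res, hcJ]; exact F.wJ_mem J
  have hVc : V ≤ S.U c := S.max c V hVp hc
  have hfix : ∀ v ∈ V, ∀ y ∈ Δ.Res J c, v • y = y := by
    intro v hv
    refine S.fixRes hth (hVc hv) hcJ ?_
    have h1 := t.θ_smul v c
    rw [hc v hv, t.mem_cent.1 (hV hv)] at h1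
    exact h1.symm
  refine ⟨J, c, ⟨hJ, fun y hy => ?_⟩, fun v hv => ⟨hV hv, fun y hy => ?_⟩⟩
  · have h1 : Δ.δ y (t.θ y) ∈ WJ cs J := Δ.δ_mem_of_mem_Res hy (θ_stable_Res hJ hcθ y hy)
    exact (F.longest J).eq_of_length h1 (hmin y fun v hv => hfix v hv y hy)
  · exact S.mem_U_of_fix (hVc hv) (hfix v hv y hy)

/-- An opposite good residue. -/
theorem exists_opp (S : Sys Δ G p) (hth : Δ.Thick) (hp2 : p ≠ 2) {J : Set I} {x : C}
    (h : t.Gd J x) : ∃ K z, t.Gd K z ∧ Δ.Opp x z ∧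
      ∀ u, u ∈ S.UR (Δ.Res J x) → u ∈ S.UR (Δ.Res K z) → u = 1 := by
  obtain ⟨K, b, had⟩ := exists_ad (cs := cs) t.φ_simple t.σσ (T := Set.univ) (J := J)
    (fun _ _ => Set.mem_univ _) h.1 (Set.subset_univ _)
  have hodd := card_SS_odd S hth hp2 had h
  have hne : {Z | Z ∈ SS Δ J K b x ∧ t.θ '' Z = Z}.Nonempty := by
    rw [Set.nonempty_iff_ne_empty]
    intro h0
    rw [h0, Set.ncard_empty] at hodd
    exact (Nat.not_odd_iff_even.2 Even.zero) hodd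
  obtain ⟨Z, hZ, hθ⟩ := hne
  obtain ⟨z, hz, rfl⟩ := SS_all had.par hZ (Δ.self_mem_Res _ _)
  have hgz : t.Gd K z := gd_of_SS had h hZ hθ
  obtain ⟨z', hz'⟩ := Δ.exists_δ z (wJ cs K)
  have hzz : z' ∈ Δ.Res K z := by rw [mem_Res, hz']; exact F.wJ_mem K
  have hopp : Δ.Opp x z' := by
    have := Δ.δ_mul_of hz hz' (had.par.minR _ (F.wJ_mem K))
    rw [had.long] at this
    exact this
  refine ⟨K, z', hgz.congr hzz, hopp, fun u hu hu' => ?_⟩
  exact S.free x z' hopp u (hu x (Δ.self_mem_Res _ _))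
    (S.fix z' u (hu' z' (Δ.self_mem_Res _ _)))

/-! ### The walk -/

/-- `d` and `d'` have the same group `P`, and the stabiliser of `d` in the centraliser stabilises
`d'`. -/
structure TC (t : Tw Δ G) (S : Sys Δ G p) (d d' : Set C) : Prop where
  st : ∀ c ∈ t.cent, c • d = d → c • d' = d'
  eq : t.P S d = t.P S d'

omit F [Finite G] hp [Finite C] in
theorem TC.refl (S : Sys Δ G p) (d : Set C) : t.TC S d d := ⟨fun _ _ h => h, rfl⟩

omit F [Finite G] hp [Finite C] in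
theorem TC.trans {S : Sys Δ G p} {d d' d'' : Set C} (h : t.TC S d d') (h' : t.TC S d' d'') :
    t.TC S d d'' := ⟨fun c hc hd => h'.st c hc (h.st c hc hd), h.eq.trans h'.eq⟩

/-- In a thin panel, the two good residues are tied. -/
theorem PD.thin (S : Sys Δ G p) {T K K' : Set I} {b : W} {y y1 : C}
    (h : t.PD T K K' b y1) (h' : t.PD T K' K b⁻¹ y) (hy : y ∈ Δ.Res T y1)
    (hne : Δ.Res K' y ≠ Δ.Res K y1)
    (hthin : ∀ Z ∈ t.Gds T y1, Z = Δ.Res K y1 ∨ Z = Δ.Res K' y) :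
    t.TC S (Δ.Res K' y) (Δ.Res K y1) := by
  have hM : Δ.Res T y = Δ.Res T y1 := Δ.Res_eq_of_mem hy
  have he : Δ.Res K y1 ∈ t.Gds T y1 := ⟨K, y1, h.ad.sub'', Δ.self_mem_Res _ _, h.gd, rfl⟩
  have hd : Δ.Res K' y ∈ t.Gds T y1 := ⟨K', y, h.ad.sub', hy, h'.gd, rfl⟩
  have hst : ∀ c ∈ t.cent, c • Δ.Res K' y = Δ.Res K' y → c • Δ.Res K y1 = Δ.Res K y1 := by
    intro c hc hcd
    have h1 : c • Δ.Res T y1 = Δ.Res T y1 := by
      rw [← hM]; exact smul_Res_of_sub S h.ad.sub' hcd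
    rcases hthin _ (smul_mem_Gds S hc h1 he) with h2 | h2
    · exact h2
    · exfalso
      have h3 : c • Δ.Res K y1 = c • Δ.Res K' y := by rw [h2, hcd]
      exact hne (smul_left_cancel c h3).symm
  refine ⟨hst, le_antisymm (fun u hu => ?_) (fun u hu => ?_)⟩
  · have h1 : u • Δ.Res K' y = Δ.Res K' y := smul_of_mem_UR S hu.2
    have h2 := hst u hu.1 h1
    refine ⟨hu.1, S.mem_UR_of_stab h'.ad.par (h'.mem_SS ?_ (Ne.symm hne)) hu.2 h2⟩
    rw [Gds_congr hy]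
    exact he
  · have h1 : u • Δ.Res K y1 = Δ.Res K y1 := smul_of_mem_UR S hu.2
    refine ⟨hu.1, S.mem_UR_of_stab h.ad.par (h.mem_SS hd hne) hu.2 ?_⟩
    rcases hthin _ (smul_mem_Gds S hu.1 (smul_Res_of_sub S h.ad.sub'' h1) hd) with h2 | h2
    · exfalso
      have h3 : u • Δ.Res K' y = u • Δ.Res K y1 := by rw [h1]; exact h2
      exact hne (smul_left_cancel u h3)
    · exact h2

theorem walk (S : Sys Δ G p) (hth : Δ.Thick) (hp2 : p ≠ 2) {J J' : Set I} {x y : C}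
    (h : t.Gd J x) (h' : t.Gd J' y) :
    t.TC S (Δ.Res J' y) (Δ.Res J x) ∨
    ∃ (T L L' : Set I) (c : W) (y1 : C) (K : Set I) (z : C) (u : G), t.PD T L L' c y1 ∧ K ⊆ T ∧
      z ∈ Δ.Res T y1 ∧ t.Gd K z ∧ t.TC S (Δ.Res J' y) (Δ.Res K z) ∧
      u ∈ t.P S (Δ.Res J x) ∧ u • Δ.Res T y1 = Δ.Res T y1 ∧ u • Δ.Res K z ≠ Δ.Res K z := by
  obtain ⟨x', hx', y', hy', hpar, hφ⟩ := parallel h h'
  rw [← Δ.Res_eq_of_mem hx', ← Δ.Res_eq_of_mem hy']
  replace h := h.congr hx'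
  replace h' := h'.congr hy'
  clear hx' hy'
  induction hn : ℓ (Δ.δ x' y') using Nat.strong_induction_on generalizing J' y' with
  | _ n ih =>
    by_cases hne : Δ.δ x' y' = 1
    · left
      rw [hne] at hpar
      rw [← hpar.eq_of_one, Δ.eq_of_δ_eq_one hne]
      exact TC.refl S _
    · obtain ⟨T, J'', v, b, y1, h1, h2, h3, h4, h5, h6, h7, h8, h9, h10, h11⟩ :=
        exists_PD h h' hpar hφ hne
      by_cases hthin : ∀ Z ∈ t.Gds T y1, Z = Δ.Res J'' y1 ∨ Z = Δ.Res J' y'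
      · have htc := h7.thin S h8 h11 h10 hthin
        have h12 : Par cs J J'' (Δ.δ x' y1) := by rw [h1]; exact h6
        have h13 : t.φ (Δ.δ x' y1) = Δ.δ x' y1 := by rw [h1]; exact h5
        rcases ih _ (by rw [← hn, h1]; exact h3) y1 h12 h13 h7.gd rfl with h14 | h14
        · left
          exact htc.trans h14
        · right
          obtain ⟨T2, L, L', c, y2, K, z, u, k1, k2, k3, k4, k5, k6⟩ := h14
          exact ⟨T2, L, L', c, y2, K, z, u, k1, k2, k3, k4, htc.trans k5, k6⟩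
      · right
        push Not at hthin
        obtain ⟨Z, hZ, hZ1, hZ2⟩ := hthin
        have hθ : ∀ Z ∈ t.Gds T y1, t.θ '' Z = Z := by
          rintro _ ⟨J, z, hJ, hz, hgd, rfl⟩
          exact image_Gd hgd
        obtain ⟨u, huc, hu, huM, huZ⟩ := trans_SS S hth hp2 h h1 h6 h4 h7.ad h7.θ_mem
          (h7.mem_SS h9 h10) (h7.mem_SS hZ hZ1) (hθ _ h9) (hθ _ hZ)
        refine ⟨T, J'', J', b, y1, J', y', u, h7, h7.ad.sub', h11, h', TC.refl S _, ⟨huc, hu⟩,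
          huM, ?_⟩
        rw [huZ]
        exact hZ2

/-- **Main claim.** A normal subgroup of odd order of the centraliser normalises all the `P Q`. -/
theorem P_smul (S : Sys Δ G p) (hth : Δ.Thick) (hp2 : p ≠ 2) {X : Subgroup G} (hX : X ≤ t.cent)
    (hnorm : ∀ g ∈ t.cent, ∀ x ∈ X, g * x * g⁻¹ ∈ X) (hodd : Odd (Nat.card X)) {J : Set I} {x : C}
    (h : t.Gd J x) {w : G} (hw : w ∈ X) : t.P S (w • Δ.Res J x) = t.P S (Δ.Res J x) := by
  have hd : t.Gd J (w • x) := gd_smul S h (hX hw)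
  rcases walk S hth hp2 h hd with h1 | h1
  · rw [S.smul_Res]
    exact h1.eq
  · exfalso
    obtain ⟨T, L, L', c, y1, K, z, u, hPD, hKT, hz, hgz, htc, hu, huM, hne⟩ := h1
    apply hne
    have huQ : u⁻¹ • Δ.Res J x = Δ.Res J x := by
      rw [inv_smul_eq_iff, smul_of_mem_UR S hu.2]
    have hc : w * u⁻¹ * w⁻¹ ∈ t.cent :=
      t.cent.mul_mem (t.cent.mul_mem (hX hw) (t.cent.inv_mem hu.1)) (t.cent.inv_mem (hX hw))
    have hcd : (w * u⁻¹ * w⁻¹) • Δ.Res J (w • x) = Δ.Res J (w • x) := by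
      rw [← S.smul_Res, mul_smul, mul_smul, inv_smul_smul, huQ]
    have hck : (w * u⁻¹ * w⁻¹) • Δ.Res K z = Δ.Res K z := htc.st _ hc hcd
    have hM : Δ.Res T z = Δ.Res T y1 := Δ.Res_eq_of_mem hz
    have hcM : (w * u⁻¹ * w⁻¹) • Δ.Res T y1 = Δ.Res T y1 := by
      rw [← hM]; exact smul_Res_of_sub S hKT hck
    have hX' : u * (w * u⁻¹ * w⁻¹) ∈ X := by
      have h2 := mul_mem (hnorm u hu.1 w hw) (inv_mem hw)
      have h3 : u * w * u⁻¹ * w⁻¹ = u * (w * u⁻¹ * w⁻¹) := by group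
      rwa [h3] at h2
    have h4 := hPD.fixes S hth hp2 hX hnorm hodd hX'
      (by rw [mul_smul, hcM, huM]) (Z := Δ.Res K z) ⟨K, z, hKT, hz, hgz, rfl⟩
    rw [mul_smul, hck] at h4
    exact h4

end Tw

open Tw in
/-- **THEOREM FIX.** -/
theorem fix [Finite G] [hp : Fact p.Prime] [Finite C] (S : Sys Δ G p) (t : Tw Δ G)
    (hth : Δ.Thick) (hp2 : p ≠ 2) {X : Subgroup G} (hX : X ≤ t.cent)
    (hnorm : ∀ g ∈ t.cent, ∀ x ∈ X, g * x * g⁻¹ ∈ X) (hodd : Odd (Nat.card X)) :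
    ¬ p ∣ Nat.card X ∧
      ∀ V : Subgroup G, V ≤ t.cent → IsPGroup p V → ∀ v ∈ V, ∀ x ∈ X, v * x = x * v := by
  classical
  have hconj : ∀ (J : Set I) (x : C), t.Gd J x → ∀ w ∈ X, ∀ u ∈ t.P S (Δ.Res J x),
      w * u * w⁻¹ ∈ t.P S (Δ.Res J x) := by
    intro J x hgd w hw u hu
    rw [← P_smul S hth hp2 hX hnorm hodd hgd hw]
    exact ⟨t.cent.mul_mem (t.cent.mul_mem (hX hw) hu.1) (t.cent.inv_mem (hX hw)),
      S.conj_mem_UR_iff.2 hu.2⟩
  -- all `p`-subgroups of `X` are contained in all `P Q`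
  have hR : ∀ R : Subgroup G, R ≤ X → IsPGroup p R → ∀ (J : Set I) (x : C), t.Gd J x →
      R ≤ t.P S (Δ.Res J x) := by
    intro R hRX hRp J x hgd
    have hnorm' : R ≤ Subgroup.normalizer (t.P S (Δ.Res J x) : Set G) := by
      intro w hw
      rw [Subgroup.mem_normalizer_iff]
      intro u
      refine ⟨fun hu => hconj J x hgd w (hRX hw) u hu, fun hu => ?_⟩
      have h1 := hconj J x hgd w⁻¹ (inv_mem (hRX hw)) _ hu
      have h2 : w⁻¹ * (w * u * w⁻¹) * w⁻¹⁻¹ = u := by group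
      rwa [h2] at h1
    have hsup : IsPGroup p ↥(R ⊔ t.P S (Δ.Res J x)) :=
      IsPGroup.to_sup_of_normal_right' hRp (P_isP S ⟨x, Δ.self_mem_Res _ _⟩) hnorm'
    obtain ⟨K, z, hgz, hle⟩ := exists_P S hth
      (sup_le (hRX.trans hX) (inf_le_left : t.P S (Δ.Res J x) ≤ t.cent)) hsup
    have h1 : t.P S (Δ.Res J x) = t.P S (Δ.Res K z) :=
      Subgroup.eq_of_le_of_card_ge (le_sup_right.trans hle)
        (card_P_const S hth hp2 hgd hgz).le
    rw [h1]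
    exact le_sup_left.trans hle
  have hR1 : ∀ R : Subgroup G, R ≤ X → IsPGroup p R → R = ⊥ := by
    intro R hRX hRp
    obtain ⟨J, x, hgd, hle⟩ := exists_P S hth (hRX.trans hX) hRp
    obtain ⟨K, z, hgz, _, hone⟩ := exists_opp S hth hp2 hgd
    rw [eq_bot_iff]
    intro u hu
    exact hone u (hle hu).2 (hR R hRX hRp K z hgz hu).2
  constructor
  · intro hdvd
    obtain ⟨g, hg⟩ := exists_prime_orderOf_dvd_card' p hdvd
    have h1 : IsPGroup p (Subgroup.zpowers (g : G)) := by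
      rw [IsPGroup.iff_card]
      refine ⟨1, ?_⟩
      rw [Nat.card_zpowers, pow_one, ← hg, Subgroup.orderOf_coe]
    have h2 := hR1 _ ((Subgroup.zpowers_le).2 g.2) h1
    rw [Subgroup.zpowers_eq_bot] at h2
    have h3 : g = 1 := Subtype.ext h2
    rw [h3, orderOf_one] at hg
    exact hp.out.one_lt.ne hg
  · intro V hV hVp v hv x hx
    obtain ⟨J, y, hgd, hle⟩ := exists_P S hth hV hVp
    have hvP := hle hv
    have h1 : v * x * v⁻¹ * x⁻¹ ∈ X := mul_mem (hnorm v (hV hv) x hx) (inv_mem hx)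
    have h2 : v * x * v⁻¹ * x⁻¹ ∈ t.P S (Δ.Res J y) := by
      have h3 := mul_mem hvP (hconj J y hgd x hx _ (inv_mem hvP))
      have h4 : v * (x * v⁻¹ * x⁻¹) = v * x * v⁻¹ * x⁻¹ := by group
      rwa [h4] at h3
    have h3 : IsPGroup p (Subgroup.zpowers (v * x * v⁻¹ * x⁻¹)) :=
      (P_isP S ⟨y, Δ.self_mem_Res _ _⟩ : IsPGroup p (t.P S (Δ.Res J y))).to_le
        ((Subgroup.zpowers_le).2 h2)
    have h4 := hR1 _ ((Subgroup.zpowers_le).2 h1) h3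
    rw [Subgroup.zpowers_eq_bot] at h4
    calc v * x = (v * x * v⁻¹ * x⁻¹) * (x * v) := by group
      _ = x * v := by rw [h4, one_mul]

end Cfsg.Agent.FixBN
end
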