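import Mathlib
import Cfsg.Agent.Tits.Core
import Cfsg.Agent.Tits.Exchange
import Cfsg.Agent.Tits.OppRes
import Cfsg.Agent.FixBN.Cox
import Cfsg.Agent.FixBN.Fix
import Cfsg.Agent.FixBN.Thin_m3
import Cfsg.Agent.FixBN.ReduceMain_m3
import Cfsg.Agent.FastGrp
import Cfsg.Agent.Prune
set_option linter.all false

section
prune_inst 0x7ffdffffbff8ffffffff7fffffffdffffdfffffffffffffbffedfbffffff7b6ffbf7fbbfffffd8fffff7f39e36f87b5bfbffdeffecfbfc7ffffd5ff47fffffdfffffbfad71f7bc351ffe7ffffbffffffffffffffffffffffffffffffffffffffffffffffffff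

-- part: FixBN/ExpTwo
section
prune_inst 0x400000000000000000000000000000000000000000000000000000000000000000000000000000000000000000002100000400000000a000000000000000000000000000000000000000000000000000000000000000000000000000000000000000
set_option linter.all false
open scoped Cfsg.Agent.FastGrp

-- part: FixBN/CoxTwo
section
/-!
A lemma on Coxeter groups for (T3): a group of left translations which preserves a finite set `K`
containing `1`, closed under right descents, with commuting descent sets, has exponent two.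
-/

set_option autoImplicit false
set_option linter.unusedSectionVars false

namespace Cfsg.Agent.FixBN.CoxTwo

open Cfsg.Agent.Tits.Core Cfsg.Agent.Tits.Exchange Cfsg.Agent.Tits

variable {I : Type*} {M : CoxeterMatrix I} {W : Type*} [Group W] {cs : CoxeterSystem M W}
  [F : OppRes.Cox cs]

local prefix:100 "ℓ" => cs.length
local prefix:100 "s" => cs.simple

/-- An element of a coset all of whose right descents contain `A` is the longest one. -/
theorem eq_mul_wJ {A : Set I} {v u : W} (hv : IsMinR cs A v) (hu : u ∈ WJ cs A)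
    (h : ∀ i ∈ A, ℓ (v * u * s i) < ℓ (v * u)) : u = wJ cs A := by
  refine F.eq_wJ_of_descents hu fun i hi => ?_
  have h1 := h i hi
  rw [mul_assoc, hv _ (mul_mem hu (simple_mem_WJ cs hi)), hv _ hu] at h1
  omega

variable {K : Set W}
  (hd : ∀ w ∈ K, ∀ i, cs.length (w * cs.simple i) < cs.length w → w * cs.simple i ∈ K)

include hd

/-- With `w` also its residue of type contained in the descent set lies in `K`. -/
theorem coset_mem {A : Set I} {w : W} (hw : w ∈ K) (hA : ∀ i ∈ A, ℓ (w * s i) < ℓ w) {u : W}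
    (hu : u ∈ WJ cs A) : w * u ∈ K := by
  obtain ⟨v, hv, u₀, hu₀, rfl⟩ := exists_isMinR cs A w
  have h0 : u₀ = wJ cs A := eq_mul_wJ hv hu₀ hA
  subst h0
  -- all `v u` lie in `K`, by downward induction on the length of `u`
  have key : ∀ n : ℕ, ∀ u ∈ WJ cs A, ℓ (wJ cs A) - ℓ u ≤ n → v * u ∈ K := by
    intro n
    induction n with
    | zero =>
      intro u hu hn
      have h1 : u = wJ cs A := by
        have h2 := F.len_wJ_mul hu
        have h3 : wJ cs A * u = 1 := cs.length_eq_zero_iff.1 (by omega)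
        rw [← F.wJ_inv A]
        exact eq_inv_of_mul_eq_one_right h3
      rw [h1]; exact hw
    | succ n ih =>
      intro u hu hn
      by_cases h1 : ∀ i ∈ A, ℓ (u * s i) < ℓ u
      · rw [F.eq_wJ_of_descents hu h1]; exact hw
      · push Not at h1
        obtain ⟨i, hi, h2⟩ := h1
        have h3 : ℓ (u * s i) = ℓ u + 1 := by
          rcases cs.length_mul_simple u i with h | h
          · exact h
          · omega
        have h4 := ih (u * s i) (mul_mem hu (simple_mem_WJ cs hi)) (by omega)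
        have h5 := hd _ h4 i (by
          rw [mul_assoc, mul_assoc, cs.simple_mul_simple_self, mul_one, hv _ hu,
            hv _ (mul_mem hu (simple_mem_WJ cs hi))]
          omega)
        rwa [mul_assoc, mul_assoc, cs.simple_mul_simple_self, mul_one] at h5
  rw [mul_assoc]
  exact key _ _ (mul_mem (F.wJ_mem A) hu) le_rfl

omit hd

/-- the cosets of `W_A` contained in `K` -/
def XA (cs : CoxeterSystem M W) (K : Set W) (A : Set I) : Set (W ⧸ WJ cs A) :=
  {c | ∀ w : W, (QuotientGroup.mk w : W ⧸ WJ cs A) = c → w ∈ K}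

include hd

/-- the number of cosets of `W_A` in `K` is the number of elements of `K` with `A` in the descent
set -/
theorem card_XA (A : Set I) :
    Nat.card (XA cs K A) = Nat.card {w : W // w ∈ K ∧ ∀ i ∈ A, ℓ (w * s i) < ℓ w} := by
  symm
  refine Nat.card_congr (Equiv.ofBijective
    (fun w => (⟨QuotientGroup.mk w.1, fun w' hw' => ?_⟩ : XA cs K A)) ⟨?_, ?_⟩)
  · rw [eq_comm, QuotientGroup.eq] at hw'
    have h1 := coset_mem hd w.2.1 w.2.2 hw'
    rwa [mul_inv_cancel_left] at h1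
  · rintro ⟨w, hw, hwA⟩ ⟨w', hw', hwA'⟩ h
    have h1 : (QuotientGroup.mk w : W ⧸ WJ cs A) = QuotientGroup.mk w' := congrArg Subtype.val h
    rw [QuotientGroup.eq] at h1
    obtain ⟨v, hv, u, hu, rfl⟩ := exists_isMinR cs A w
    have h2 : w' = v * (u * ((v * u)⁻¹ * w')) := by group
    have h3 : u * ((v * u)⁻¹ * w') ∈ WJ cs A := mul_mem hu h1
    have h4 := eq_mul_wJ hv hu hwA
    have h5 := eq_mul_wJ hv h3 (by rw [← h2]; exact hwA')
    apply Subtype.ext
    change v * u = w'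
    rw [h2, h5, h4]
  · rintro ⟨c, hc⟩
    obtain ⟨w, rfl⟩ := QuotientGroup.mk_surjective c
    obtain ⟨v, hv, u, hu, rfl⟩ := exists_isMinR cs A w
    have h1 : (QuotientGroup.mk (v * wJ cs A) : W ⧸ WJ cs A) = QuotientGroup.mk (v * u) := by
      rw [QuotientGroup.eq]
      have : (v * wJ cs A)⁻¹ * (v * u) = (wJ cs A)⁻¹ * u := by group
      rw [this]
      exact mul_mem (inv_mem (F.wJ_mem A)) hu
    refine ⟨⟨v * wJ cs A, hc _ h1, fun i hi => ?_⟩, Subtype.ext h1⟩
    have h2 := F.len_wJ_mul (simple_mem_WJ cs hi)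
    rw [cs.length_simple] at h2
    rw [mul_assoc, hv _ (mul_mem (F.wJ_mem A) (simple_mem_WJ cs hi)), hv _ (F.wJ_mem A)]
    omega

/-- the alternating sum is `1` -/
theorem sum_XA [Fintype I] [DecidableEq I] (hfin : K.Finite) (h1 : (1 : W) ∈ K) :
    ∑ A : Finset I, (-1 : ℤ) ^ A.card * (Nat.card (XA cs K (A : Set I)) : ℤ) = 1 := by
  classical
  have : Fintype K := hfin.fintype
  have h2 : ∀ A : Finset I, (Nat.card (XA cs K (A : Set I)) : ℤ) =
      ∑ w : K, if A ⊆ Finset.univ.filter (fun i => ℓ (w.1 * s i) < ℓ w.1) then 1 else 0 := by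
    intro A
    rw [card_XA hd, Finset.sum_boole]
    congr 1
    rw [← Fintype.card_subtype, ← Nat.card_eq_fintype_card]
    refine Nat.card_congr
      { toFun := fun w => ⟨⟨w.1, w.2.1⟩, fun i hi => by
          rw [Finset.mem_filter]; exact ⟨Finset.mem_univ i, w.2.2 i hi⟩⟩
        invFun := fun w => ⟨w.1.1, w.1.2, fun i hi => (Finset.mem_filter.1 (w.2 hi)).2⟩
        left_inv := fun w => rfl
        right_inv := fun w => rfl }
  simp only [h2, Finset.mul_sum]
  rw [Finset.sum_comm]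
  have h3 : ∀ w : K, ∑ A : Finset I, (-1 : ℤ) ^ A.card *
      (if A ⊆ Finset.univ.filter (fun i => ℓ (w.1 * s i) < ℓ w.1) then 1 else 0) =
      if (w : W) = 1 then 1 else 0 := by
    intro w
    simp only [mul_ite, mul_one, mul_zero]
    rw [← Finset.sum_filter]
    have h4 : (Finset.univ.filter fun A : Finset I =>
        A ⊆ Finset.univ.filter (fun i => ℓ (w.1 * s i) < ℓ w.1)) =
        (Finset.univ.filter (fun i => ℓ (w.1 * s i) < ℓ w.1)).powerset := by
      ext A
      simp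
    rw [h4, Finset.sum_powerset_neg_one_pow_card]
    congr 1
    rw [Finset.filter_eq_empty_iff, eq_iff_iff]
    constructor
    · intro h5
      by_contra hne
      obtain ⟨i, hi⟩ := cs.exists_rightDescent_of_ne_one hne
      exact h5 (Finset.mem_univ i) hi
    · intro h5 i _
      rw [h5, cs.length_one]
      omega
  rw [Finset.sum_congr rfl fun w _ => h3 w, Finset.sum_eq_single (⟨1, h1⟩ : K)]
  · rw [if_pos rfl]
  · intro w _ hw
    rw [if_neg]
    intro h4
    exact hw (Subtype.ext h4)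
  · intro h4
    exact absurd (Finset.mem_univ _) h4

/-- Elements of prime power order. -/
theorem sq_of_prime_pow [Finite I] (hfin : K.Finite) (h1 : (1 : W) ∈ K)
    (hc : ∀ w ∈ K, ∀ i j, cs.length (w * cs.simple i) < cs.length w →
      cs.length (w * cs.simple j) < cs.length w →
      cs.simple i * cs.simple j = cs.simple j * cs.simple i)
    {g : W} (hg : ∀ n : ℤ, ∀ w ∈ K, g ^ n * w ∈ K) {r k : ℕ} [hr : Fact r.Prime]
    (hgr : orderOf g = r ^ k) : g * g = 1 := by
  classical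
  have := Fintype.ofFinite I
  set H : Subgroup W := Subgroup.zpowers g with hH
  have hHp : IsPGroup r H := IsPGroup.of_card (n := k) (by rw [Nat.card_zpowers, hgr])
  have hHK : ∀ h ∈ H, ∀ w ∈ K, h * w ∈ K := by
    rintro h ⟨n, rfl⟩ w hw
    exact hg n w hw
  -- a coset fixed by `H`
  have hex : ∃ A : Finset I, ∃ c ∈ XA cs K (A : Set I), ∀ h ∈ H, h • c = c := by
    by_contra hcon
    push Not at hcon
    have hdvd : ∀ A : Finset I, (r : ℤ) ∣ (Nat.card (XA cs K (A : Set I)) : ℤ) := by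
      intro A
      have hinv : ∀ h ∈ H, ∀ c ∈ XA cs K (A : Set I), h • c ∈ XA cs K (A : Set I) := by
        intro h hh c hc w hw
        have h2 : (QuotientGroup.mk (h⁻¹ * w) : W ⧸ WJ cs (A : Set I)) = c := by
          have h3 : (QuotientGroup.mk (h⁻¹ * w) : W ⧸ WJ cs (A : Set I)) =
              h⁻¹ • (QuotientGroup.mk w : W ⧸ WJ cs (A : Set I)) := rfl
          rw [h3, hw, inv_smul_smul]
        have h4 := hHK h hh _ (hc _ h2)
        rwa [mul_inv_cancel_left] at h4
      let act : MulAction H (XA cs K (A : Set I)) :=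
        { smul := fun h c => ⟨h.1 • c.1, hinv h.1 h.2 c.1 c.2⟩
          one_smul := fun c => Subtype.ext (one_smul W c.1)
          mul_smul := fun a b c => Subtype.ext (mul_smul a.1 b.1 c.1) }
      have hf : Finite (XA cs K (A : Set I)) := by
        refine Set.Finite.to_subtype ((hfin.image fun w =>
          (QuotientGroup.mk w : W ⧸ WJ cs (A : Set I))).subset ?_)
        intro c hc
        obtain ⟨w, rfl⟩ := QuotientGroup.mk_surjective c
        exact ⟨w, hc w rfl, rfl⟩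
      have h2 := hHp.card_modEq_card_fixedPoints (XA cs K (A : Set I))
      have h3 : Nat.card (MulAction.fixedPoints H (XA cs K (A : Set I))) = 0 := by
        rw [Nat.card_eq_zero]
        left
        constructor
        rintro ⟨c, hc⟩
        obtain ⟨h, hh, hne⟩ := hcon A c.1 c.2
        exact hne (congrArg Subtype.val (hc ⟨h, hh⟩))
      rw [h3] at h2
      exact Int.natCast_dvd_natCast.2 ((Nat.modEq_zero_iff_dvd).1 h2)
    have h2 := sum_XA hd hfin h1
    have h3 : (r : ℤ) ∣ 1 := by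
      rw [← h2]
      exact Finset.dvd_sum fun A _ => (hdvd A).mul_left _
    have h4 : r ∣ 1 := by exact_mod_cast h3
    exact hr.1.one_lt.ne' (Nat.dvd_one.1 h4)
  obtain ⟨A, c, hcA, hfix⟩ := hex
  obtain ⟨w, rfl⟩ := QuotientGroup.mk_surjective c
  have h2 := hfix g (Subgroup.mem_zpowers g)
  have h3 : (QuotientGroup.mk (g * w) : W ⧸ WJ cs (A : Set I)) = QuotientGroup.mk w := h2
  rw [eq_comm, QuotientGroup.eq] at h3
  -- the type `A` is commuting
  obtain ⟨v, hv, u, hu, rfl⟩ := exists_isMinR cs (A : Set I) w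
  have h4 : (QuotientGroup.mk (v * wJ cs (A : Set I)) : W ⧸ WJ cs (A : Set I)) =
      QuotientGroup.mk (v * u) := by
    rw [QuotientGroup.eq]
    have : (v * wJ cs (A : Set I))⁻¹ * (v * u) = (wJ cs (A : Set I))⁻¹ * u := by group
    rw [this]
    exact mul_mem (inv_mem (F.wJ_mem _)) hu
  have h5 := hcA _ h4
  have hdesc : ∀ i ∈ A, ℓ (v * wJ cs (A : Set I) * s i) < ℓ (v * wJ cs (A : Set I)) := by
    intro i hi
    have hi' : i ∈ (A : Set I) := hi
    have h2 := F.len_wJ_mul (simple_mem_WJ cs hi')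
    rw [cs.length_simple] at h2
    rw [mul_assoc, hv _ (mul_mem (F.wJ_mem _) (simple_mem_WJ cs hi')), hv _ (F.wJ_mem _)]
    omega
  have hcomm : ∀ i ∈ A, ∀ j ∈ A, s i * s j = s j * s i := fun i hi j hj =>
    hc _ h5 i j (hdesc i hi) (hdesc j hj)
  -- `W_A` is elementary abelian
  have hab1 : ∀ i ∈ A, ∀ x ∈ WJ cs (A : Set I), s i * x = x * s i := by
    intro i hi x hx
    have h6 : WJ cs (A : Set I) ≤ Subgroup.centralizer {s i} := by
      refine (Subgroup.closure_le _).2 ?_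
      rintro _ ⟨j, hj, rfl⟩
      rw [SetLike.mem_coe, Subgroup.mem_centralizer_singleton_iff]
      exact (hcomm i hi j hj).symm
    exact (Subgroup.mem_centralizer_singleton_iff.1 (h6 hx)).symm
  have hsq : ∀ x ∈ WJ cs (A : Set I), x * x = 1 := by
    intro x hx
    obtain ⟨ω, hω, rfl⟩ := exists_word_of_mem_WJ cs hx
    clear hx
    induction ω with
    | nil => simp
    | cons i ω ih =>
      have hi : i ∈ A := hω i (by simp)
      have hω' : ∀ k ∈ ω, k ∈ (A : Set I) := fun k hk => hω k (by simp [hk])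
      have h7 := hab1 i hi _ (wordProd_mem_WJ cs hω')
      rw [cs.wordProd_cons]
      calc s i * cs.wordProd ω * (s i * cs.wordProd ω)
          = cs.wordProd ω * s i * (s i * cs.wordProd ω) :=
            congrArg (fun y => y * (s i * cs.wordProd ω)) h7
        _ = cs.wordProd ω * (s i * s i) * cs.wordProd ω := by simp only [mul_assoc]
        _ = cs.wordProd ω * cs.wordProd ω := by rw [cs.simple_mul_simple_self, mul_one]
        _ = 1 := ih hω'
  have h6 := hsq _ h3
  have h7 : g * g = (v * u) * (((v * u)⁻¹ * (g * (v * u))) * ((v * u)⁻¹ * (g * (v * u)))) *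
      (v * u)⁻¹ := by group
  rw [h7, h6, mul_one, mul_inv_cancel]

/-- **The Coxeter lemma of (T3).** -/
theorem sq_eq_one [Finite I] (hfin : K.Finite) (h1 : (1 : W) ∈ K)
    (hc : ∀ w ∈ K, ∀ i j, cs.length (w * cs.simple i) < cs.length w →
      cs.length (w * cs.simple j) < cs.length w →
      cs.simple i * cs.simple j = cs.simple j * cs.simple i)
    {Ω : Subgroup W} (hΩ : ∀ g ∈ Ω, ∀ w ∈ K, g * w ∈ K) {g : W} (hg : g ∈ Ω) : g * g = 1 := by
  have hpow : ∀ n : ℤ, g ^ n ∈ K := by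
    intro n
    have h2 := hΩ (g ^ n) (Subgroup.zpow_mem Ω hg n) 1 h1
    rwa [mul_one] at h2
  have hfo : IsOfFinOrder g := by
    rw [← finite_zpowers]
    refine hfin.subset ?_
    rintro _ ⟨n, rfl⟩
    exact hpow n
  have hdvd : orderOf g ∣ 2 := by
    rw [Nat.dvd_iff_prime_pow_dvd_dvd]
    intro r k hr hrk
    have : Fact r.Prime := ⟨hr⟩
    obtain ⟨m, hm⟩ := hrk
    have hpos := hfo.orderOf_pos
    have hm0 : m ≠ 0 := by rintro rfl; omega
    have h2 : orderOf (g ^ m) = r ^ k := by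
      rw [orderOf_pow_of_dvd hm0 ⟨r ^ k, by rw [hm, mul_comm]⟩, hm]
      exact Nat.mul_div_cancel _ (Nat.pos_of_ne_zero hm0)
    have h3 := sq_of_prime_pow hd hfin h1 hc (g := g ^ m) (r := r) (k := k)
      (fun n w hw => hΩ _ (Subgroup.zpow_mem Ω (Subgroup.pow_mem Ω hg m) n) w hw) h2
    rw [← h2]
    exact orderOf_dvd_of_pow_eq_one (by rw [pow_two, h3])
  have h2 := orderOf_dvd_iff_pow_eq_one.1 hdvd
  rwa [pow_two] at h2

end Cfsg.Agent.FixBN.CoxTwo
end

-- part: FixBN/ExpTwo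
section
/-!
THEOREM FIX, part T3: the good residues with the same group `P`, geometry.

`x`, `y` run over the chambers of the good residues of type `J` with `t.P S (Res J x) = P`. Their
relative position is an element `w` of the Weyl group, all the right descents of `w` commute with
each other (and with `J`, which is commuting), and the relative position is multiplicative.
-/

set_option autoImplicit false
set_option linter.unusedSectionVars false

open scoped Pointwise

namespace Cfsg.Agent.FixBN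

open Cfsg.Agent.Tits.Core Cfsg.Agent.Tits.Core.Bldg Cfsg.Agent.Tits.Exchange Cfsg.Agent.Tits
open Cfsg.Agent.FixBN.Cox

variable {I : Type*} {M : CoxeterMatrix I} {W : Type*} [Group W] {cs : CoxeterSystem M W} {C : Type*}

local prefix:100 "ℓ" => cs.length

variable {Δ : Bldg cs C} {G : Type*} [Group G] [MulAction G C] {p : ℕ} {t : Tw Δ G}
  [F : OppRes.Cox cs]

namespace Tw

/-- A good residue (of type `J`) with group `P`. -/
structure Mem (t : Tw Δ G) (S : Sys Δ G p) (J : Set I) (P : Subgroup G) (y : C) : Prop where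
  gd : t.Gd J y
  eq : t.P S (Δ.Res J y) = P

omit F in
theorem Mem.congr {S : Sys Δ G p} {J : Set I} {P : Subgroup G} {x y : C} (h : t.Mem S J P x)
    (hy : y ∈ Δ.Res J x) : t.Mem S J P y :=
  ⟨h.gd.congr hy, by rw [Δ.Res_eq_of_mem hy]; exact h.eq⟩

/-- the relative position of two chambers: parallel and fixed by the diagram automorphism -/
structure Pos (t : Tw Δ G) (J : Set I) (w : W) : Prop where
  par : Par cs J J w
  fix : t.φ w = w

theorem fixT (S : Sys Δ G p) (hth : Δ.Thick) {J T : Set I} {x y : C} {v b : W}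
    (hmin : IsMinR cs J (Δ.δ x y)) (hxy : Δ.δ x y = v * b) (hv : IsMinR cs T v)
    (hb : b * wJ cs J = wJ cs T) (hJT : J ⊆ T) {u : G} (hux : u ∈ S.UR (Δ.Res J x))
    (huy : u ∈ S.UR (Δ.Res J y)) : ∀ z ∈ Δ.Res T y, u • z = z := by
  obtain ⟨z, hz⟩ := Δ.exists_δ y (wJ cs J)
  have hzJ : z ∈ Δ.Res J y := by rw [mem_Res, hz]; exact F.wJ_mem J
  have hxz : Δ.δ x z = v * wJ cs T := by
    rw [← hb, ← mul_assoc, ← hxy]
    exact Δ.δ_mul_of rfl hz (hmin _ (F.wJ_mem J))
  have hl : ℓ (v * wJ cs T) = ℓ v + ℓ (wJ cs T) := hv _ (F.wJ_mem T)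
  obtain ⟨y1, hy1, hy1'⟩ := Δ.exists_between hxz hl
  have hux' : u ∈ S.U x := hux x (Δ.self_mem_Res _ _)
  have hx : u • x = x := S.fix x u hux'
  have hzf : u • z = z := S.fix z u (huy z hzJ)
  have hy1f : u • y1 = y1 := by
    refine Δ.between_unique hl (x := x) (z := z) ?_ ?_ hy1 hy1'
    · rw [← hy1, ← S.iso u x y1, hx]
    · rw [← hy1', ← S.iso u y1 z, hzf]
  have h1 := S.fixRes hth (S.mem_U_of_fix hux' hy1f) hy1' hzf
  have h2 : z ∈ Δ.Res T y1 := by rw [mem_Res, hy1']; exact F.wJ_mem T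
  have h3 : Δ.Res T y = Δ.Res T y1 := by
    rw [← Δ.Res_eq_of_mem h2]
    exact (Δ.Res_eq_of_mem (Δ.Res_mono hJT y hzJ)).symm
  rw [h3]
  exact h1


/-! ### One descent -/

section Step

/-- the data of a descent -/
structure Dsc (t : Tw Δ G) (J : Set I) (w : W) (i : I) : Prop where
  lt : ℓ (w * cs.simple i) < ℓ w
  σ : t.σ i = i
  comm : ∀ j ∈ J, cs.simple j * cs.simple i = cs.simple i * cs.simple j

theorem length_mul_lt_iff (w : W) (i : I) :
    ℓ (w * cs.simple i * cs.simple i) < ℓ (w * cs.simple i) ↔ ¬ ℓ (w * cs.simple i) < ℓ w := by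
  have h1 := cs.length_mul_simple_ne w i
  rw [cs.simple_mul_simple_cancel_right]
  omega

theorem Pos.notMem {J : Set I} {w : W} (h : t.Pos J w) {i : I}
    (hi : ℓ (w * cs.simple i) < ℓ w) : i ∉ J := by
  intro hJ
  have h1 := h.par.minR _ (simple_mem_WJ cs hJ)
  omega

theorem Pos.mul {J : Set I} {w : W} (h : t.Pos J w) {i : I} (hi : t.Dsc J w i) :
    t.Pos J (w * cs.simple i) := by
  have hσ : t.φ (w * cs.simple i) = w * cs.simple i := by
    rw [map_mul, h.fix, t.φ_simple, hi.σ]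
  have key : ∀ j ∈ J, ℓ (w * cs.simple i) < ℓ (w * cs.simple i * cs.simple j) := by
    intro j hj
    have h1 := h.par.minR _ (simple_mem_WJ cs hj)
    have h2 : w * cs.simple i * cs.simple j = w * cs.simple j * cs.simple i := by
      rw [mul_assoc, ← hi.comm j hj, mul_assoc]
    have h3 := cs.length_mul_simple (w * cs.simple j) i
    rw [cs.length_simple] at h1
    have h4 := hi.lt
    rw [h2]
    omega
  refine ⟨⟨fun j hj => ?_, fun k hk => ?_, (isMinL_iff cs).2 fun k hk => ?_,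
    (isMinR_iff cs).2 key⟩, hσ⟩
  · obtain ⟨k, hk, he⟩ := h.par.fwd j hj
    refine ⟨k, hk, ?_⟩
    rw [mul_assoc, ← hi.comm j hj, ← mul_assoc, he, mul_assoc]
  · obtain ⟨j, hj, he⟩ := h.par.bwd k hk
    refine ⟨j, hj, ?_⟩
    rw [← mul_assoc, he, mul_assoc, hi.comm j hj, mul_assoc]
  · obtain ⟨j, hj, he⟩ := h.par.bwd k hk
    have h1 := key j hj
    rw [mul_assoc w, ← hi.comm j hj, ← mul_assoc w, ← he, mul_assoc] at h1
    exact h1

theorem Pos.simple {J : Set I} {w : W} (h : t.Pos J w) {i : I} (hi : t.Dsc J w i) :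
    t.Pos J (cs.simple i) := by
  have hne : ∀ j ∈ J, j ≠ i := fun j hj he => h.notMem hi.lt (he ▸ hj)
  have key : ∀ j ∈ J, ℓ (cs.simple i) < ℓ (cs.simple i * cs.simple j) := by
    intro j hj
    have h1 := cs.length_mul_simple (cs.simple i) j
    rcases h1 with h1 | h1
    · omega
    · exfalso
      rw [cs.length_simple] at h1
      have h2 : ℓ (cs.simple i * cs.simple j) = 0 := by omega
      rw [cs.length_eq_zero_iff] at h2
      apply hne j hj
      apply F.inj
      rw [mul_eq_one_iff_eq_inv, cs.inv_simple] at h2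
      exact h2.symm
  refine ⟨⟨fun j hj => ⟨j, hj, (hi.comm j hj).symm⟩, fun j hj => ⟨j, hj, hi.comm j hj⟩,
    (isMinL_iff cs).2 fun k hk => ?_, (isMinR_iff cs).2 key⟩, by rw [t.φ_simple, hi.σ]⟩
  rw [hi.comm k hk]
  exact key k hk

theorem Pos.inv {J : Set I} {w : W} (h : t.Pos J w) : t.Pos J w⁻¹ :=
  ⟨h.par.symm, by rw [map_inv, h.fix]⟩

theorem Pos.one (J : Set I) : t.Pos J 1 := ⟨par_one J, map_one _⟩

/-- right minimality with respect to `J ∪ {i}` -/
theorem Pos.minR {J : Set I} {w : W} (h : t.Pos J w) {i : I} (hi : ¬ ℓ (w * cs.simple i) < ℓ w) :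
    IsMinR cs (J ∪ {i}) w := by
  rw [isMinR_iff]
  rintro k (hk | hk)
  · have := h.par.minR _ (simple_mem_WJ cs hk)
    rw [cs.length_simple] at this
    omega
  · rw [Set.mem_singleton_iff] at hk
    have := cs.length_mul_simple_ne w i
    rw [hk]
    omega

end Step

/-! ### The relative position of two good residues -/

section Rel

/-- `w` is the relative position of the residues `Res J x`, `Res J y`. -/
def Rel (t : Tw Δ G) (J : Set I) (x y : C) (w : W) : Prop :=
  ∃ a ∈ Δ.Res J x, ∃ b ∈ Δ.Res J y, Δ.δ a b = w ∧ t.Pos J w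

theorem Rel.pos {J : Set I} {x y : C} {w : W} (h : t.Rel J x y w) : t.Pos J w := by
  obtain ⟨_, _, _, _, _, h⟩ := h
  exact h

theorem Rel.left {J : Set I} {x y : C} {w : W} (h : t.Rel J x y w) {a : C}
    (ha : a ∈ Δ.Res J x) : ∃ b ∈ Δ.Res J y, Δ.δ a b = w := by
  obtain ⟨a', ha', b', hb', hab, hw⟩ := h
  obtain ⟨c, hc, hc'⟩ := par_transfer hw.par hab (a := a)
    (by rw [Δ.Res_eq_of_mem ha']; exact ha)
  exact ⟨c, Δ.mem_Res_trans hb' hc, hc'⟩

theorem Rel.symm {J : Set I} {x y : C} {w : W} (h : t.Rel J x y w) : t.Rel J y x w⁻¹ := by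
  obtain ⟨a, ha, b, hb, hab, hw⟩ := h
  exact ⟨b, hb, a, ha, by rw [Δ.symm a b, hab], hw.inv⟩

theorem Rel.unique {J : Set I} {x y : C} {w w' : W} (h : t.Rel J x y w) (h' : t.Rel J x y w') :
    w = w' := by
  obtain ⟨a, ha, b, hb, hab, hw⟩ := h'
  obtain ⟨c, hc, hc'⟩ := h.left ha
  have h1 : Δ.IsProj J y a c := Δ.isProj_of_isMinR hc (by rw [hc']; exact h.pos.par.minR)
  have h2 : Δ.IsProj J y a b := Δ.isProj_of_isMinR hb (by rw [hab]; exact hw.par.minR)
  rw [← hc', ← hab, h1.unique h2]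

theorem Rel.congr {J : Set I} {x y x' y' : C} {w : W} (h : t.Rel J x y w)
    (hx : Δ.Res J x = Δ.Res J x') (hy : Δ.Res J y = Δ.Res J y') : t.Rel J x' y' w := by
  obtain ⟨a, ha, b, hb, hab, hw⟩ := h
  exact ⟨a, hx ▸ ha, b, hy ▸ hb, hab, hw⟩

theorem Rel.one {J : Set I} {x y : C} (h : Δ.Res J x = Δ.Res J y) : t.Rel J x y 1 :=
  ⟨x, Δ.self_mem_Res _ _, x, h ▸ Δ.self_mem_Res _ _, Δ.δ_self x, Pos.one J⟩

theorem Rel.eq_one_iff {J : Set I} {x y : C} {w : W} (h : t.Rel J x y w) :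
    w = 1 ↔ Δ.Res J x = Δ.Res J y := by
  constructor
  · rintro rfl
    obtain ⟨a, ha, b, hb, hab, hw⟩ := h
    rw [← Δ.Res_eq_of_mem ha, ← Δ.Res_eq_of_mem hb, Δ.eq_of_δ_eq_one hab]
  · intro he
    exact h.unique (Rel.one he)

theorem Rel.smul (S : Sys Δ G p) {J : Set I} {x y : C} {w : W} (h : t.Rel J x y w) (g : G) :
    t.Rel J (g • x) (g • y) w := by
  obtain ⟨a, ha, b, hb, hab, hw⟩ := h
  exact ⟨g • a, S.smul_mem_Res ha, g • b, S.smul_mem_Res hb, by rw [S.iso, hab], hw⟩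

theorem Rel.exists {J : Set I} {x y : C} (hx : t.Gd J x) (hy : t.Gd J y) :
    ∃ w, t.Rel J x y w := by
  obtain ⟨a, ha, b, hb, hpar, hφ⟩ := parallel hx hy
  exact ⟨_, a, ha, b, hb, rfl, hpar, hφ⟩

end Rel

variable [Finite G] [hp : Fact p.Prime] [Finite C]

/-- all the types of `J` and the descent `i` commute, `σ i = i` -/
theorem Mem.descent {S : Sys Δ G p} (hth : Δ.Thick) (hp2 : p ≠ 2) {J : Set I} {P : Subgroup G}
    {x y : C} (hx : t.Mem S J P x) (hy : t.Mem S J P y) (hw : t.Pos J (Δ.δ x y)) {i : I}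
    (hi : ℓ (Δ.δ x y * cs.simple i) < ℓ (Δ.δ x y)) :
    t.σ i = i ∧ (∀ z ∈ Δ.Res (J ∪ {i}) y, ∀ u ∈ P, u • z = z) ∧
      (∀ j ∈ J ∪ {i}, ∀ k ∈ J ∪ {i}, cs.simple j * cs.simple k = cs.simple k * cs.simple j) ∧
      ∀ j ∈ J, t.σ j = j := by
  obtain ⟨v, b, hvb, hb, hv, hφv, hφb, hb1, hpv, hpb, hst, hlong⟩ :=
    exists_step t.φ_simple t.σσ hw.par hx.gd.1 hx.gd.1 hw.fix hi (T := J ∪ {i, t.σ i}) rfl
  have hsub : J ⊆ J ∪ {i, t.σ i} := Set.subset_union_left
  have hTst : t.Stab (J ∪ {i, t.σ i}) := by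
    rintro k (hk | hk | hk)
    · left; exact hx.gd.1 k hk
    · right; right
      rw [Set.mem_singleton_iff, hk]
    · right; left
      rw [Set.mem_singleton_iff] at hk
      rw [hk, t.σσ]
  have hfix : ∀ u ∈ P, ∀ z ∈ Δ.Res (J ∪ {i, t.σ i}) y, u • z = z := by
    intro u hu
    have h1 : u ∈ t.P S (Δ.Res J x) := by rw [hx.eq]; exact hu
    have h2 : u ∈ t.P S (Δ.Res J y) := by rw [hy.eq]; exact hu
    exact fixT S hth hw.par.minR hvb hv hlong hsub h1.2 h2.2
  have hthin := S.thin hp2 hth hy.gd hTst hsub fun u hu huc => hfix u (by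
    rw [← hy.eq]
    exact ⟨huc, hu⟩)
  have hσi : t.σ i = i := hthin.2 i (by right; left; rfl)
  rw [hσi] at hthin hfix
  have he : J ∪ {i, i} = J ∪ {i} := by simp
  rw [he] at hthin hfix
  exact ⟨hσi, fun z hz u hu => hfix u hu z hz, fun j hj k hk => hthin.1 j hj k hk,
    fun j hj => hthin.2 j (Or.inl hj)⟩

/-- The step to the neighbour. -/
theorem Mem.step {S : Sys Δ G p} (hth : Δ.Thick) (hp2 : p ≠ 2) {J : Set I} {P : Subgroup G}
    {x y : C} (hx : t.Mem S J P x) (hy : t.Mem S J P y) (hw : t.Pos J (Δ.δ x y)) {i : I}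
    (hi : ℓ (Δ.δ x y * cs.simple i) < ℓ (Δ.δ x y)) :
    t.Dsc J (Δ.δ x y) i ∧ ∃ y1, Δ.δ x y1 = Δ.δ x y * cs.simple i ∧ Δ.δ y1 y = cs.simple i ∧
      t.Mem S J P y1 := by
  obtain ⟨hσ, hfix, hcomm, hσJ⟩ := hx.descent hth hp2 hy hw hi
  have hd : t.Dsc J (Δ.δ x y) i :=
    ⟨hi, hσ, fun j hj => hcomm j (Or.inl hj) i (Or.inr rfl)⟩
  have h1 := hw.mul hd
  have h2 := hw.simple hd
  have hl : ℓ (Δ.δ x y * cs.simple i * cs.simple i) =
      ℓ (Δ.δ x y * cs.simple i) + ℓ (cs.simple i) := by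
    rw [cs.simple_mul_simple_cancel_right, cs.length_simple]
    have := cs.length_mul_simple (Δ.δ x y) i
    omega
  obtain ⟨y1, hy1, hy1'⟩ := Δ.exists_between (x := x) (z := y) (v := Δ.δ x y * cs.simple i)
    (w := cs.simple i) (by rw [cs.simple_mul_simple_cancel_right]) hl
  have hst : t.Stab (J ∪ {i}) := by
    rintro k (hk | hk)
    · left; exact hx.gd.1 k hk
    · right
      rw [Set.mem_singleton_iff] at hk ⊢
      rw [hk, hσ]
  have hTy : y ∈ Δ.Res (J ∪ {i}) y1 := by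
    rw [mem_Res, hy1']; exact simple_mem_WJ cs (Or.inr rfl)
  have hsub : J ⊆ J ∪ {i} := Set.subset_union_left
  have hgd : t.Gd J y1 := by
    refine gd_transfer' hx.gd h1.par hy1 h1.fix hx.gd.1 hst hsub ?_ ?_
    · refine h1.minR ?_
      rw [length_mul_lt_iff]
      exact not_not.2 hi
    · have h3 : t.θ y ∈ Δ.Res (J ∪ {i}) y := Δ.Res_mono hsub y hy.gd.θ_mem
      have h4 := t.θ_mem_Res hst (Δ.mem_Res_symm hTy)
      exact Δ.mem_Res_trans (Δ.mem_Res_trans hTy h3) h4
  refine ⟨hd, y1, hy1, hy1', hgd, ?_⟩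
  have hle : P ≤ t.P S (Δ.Res J y1) := by
    intro u hu
    have hu' : u ∈ t.P S (Δ.Res J y) := by rw [hy.eq]; exact hu
    refine ⟨hu'.1, fun c hc => ?_⟩
    refine S.mem_U_of_fix (hu'.2 y (Δ.self_mem_Res _ _)) (hfix c ?_ u hu)
    exact Δ.mem_Res_trans (Δ.mem_Res_symm hTy) (Δ.Res_mono hsub y1 hc)
  refine (Subgroup.eq_of_le_of_card_ge hle ?_).symm
  rw [card_P_const S hth hp2 hx.gd hgd, hx.eq]

/-- All the descents commute. -/
theorem Mem.descents {S : Sys Δ G p} (hth : Δ.Thick) (hp2 : p ≠ 2) {J : Set I} {P : Subgroup G}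
    {x y : C} (hx : t.Mem S J P x) (hy : t.Mem S J P y) (hw : t.Pos J (Δ.δ x y)) {i j : I}
    (hi : ℓ (Δ.δ x y * cs.simple i) < ℓ (Δ.δ x y))
    (hj : ℓ (Δ.δ x y * cs.simple j) < ℓ (Δ.δ x y)) :
    cs.simple i * cs.simple j = cs.simple j * cs.simple i := by
  set R : Set I := {k | ℓ (Δ.δ x y * cs.simple k) < ℓ (Δ.δ x y)} with hR
  have hd : ∀ k ∈ R, t.Dsc J (Δ.δ x y) k := fun k hk => (hx.step hth hp2 hy hw hk).1
  have hsub : J ⊆ J ∪ R := Set.subset_union_left
  have hTst : t.Stab (J ∪ R) := by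
    rintro k (hk | hk)
    · left; exact hx.gd.1 k hk
    · right
      rw [(hd k hk).σ]
      exact hk
  obtain ⟨v, hv, b, hb, hvb⟩ := exists_isMinR cs (J ∪ R) (Δ.δ x y)
  have hdesc : ∀ k ∈ J ∪ R, (ℓ (b * cs.simple k) < ℓ b ↔
      ℓ (Δ.δ x y * cs.simple k) < ℓ (Δ.δ x y)) := by
    intro k hk
    have h1 := hv _ (mul_mem hb (simple_mem_WJ cs hk))
    have h2 := hv b hb
    rw [← mul_assoc, ← hvb] at h1
    rw [← hvb] at h2
    omega
  have hbR : IsMinR cs J b := by
    rw [isMinR_iff]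
    intro k hk
    have h1 := (hdesc k (hsub hk)).not.2 (by
      have := hw.par.minR _ (simple_mem_WJ cs hk)
      omega)
    have h2 := cs.length_mul_simple_ne b k
    omega
  have hlz : ℓ (b * wJ cs J) = ℓ b + ℓ (wJ cs J) := hbR _ (F.wJ_mem J)
  have hb' : b * wJ cs J = wJ cs (J ∪ R) := by
    refine F.eq_wJ_of_descents (mul_mem hb (WJ_mono cs hsub (F.wJ_mem J))) fun k hk => ?_
    rcases hk with hk | hk
    · have h1 := hbR _ (mul_mem (F.wJ_mem J) (simple_mem_WJ cs hk))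
      have h2 := F.len_wJ_mul (simple_mem_WJ cs hk)
      rw [cs.length_simple] at h2
      rw [mul_assoc]
      omega
    · have hc : wJ cs J * cs.simple k = cs.simple k * wJ cs J := by
        have h1 : WJ cs J ≤ Subgroup.centralizer {cs.simple k} := by
          rw [WJ, Subgroup.closure_le]
          rintro _ ⟨j, hj, rfl⟩
          rw [SetLike.mem_coe, Subgroup.mem_centralizer_singleton_iff]
          exact ((hd k hk).comm j hj)
        have h2 := h1 (F.wJ_mem J)
        rw [Subgroup.mem_centralizer_singleton_iff] at h2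
        exact h2
      have h1 := (hdesc k (Or.inr hk)).2 hk
      have h2 := cs.length_mul_le (b * cs.simple k) (wJ cs J)
      rw [mul_assoc b, hc, ← mul_assoc b]
      omega
  have hthin := S.thin hp2 hth hy.gd hTst hsub fun u hu huc => by
    have hup : u ∈ t.P S (Δ.Res J x) := by
      rw [hx.eq, ← hy.eq]
      exact ⟨huc, hu⟩
    exact fixT S hth hw.par.minR hvb hv hb' hsub hup.2 hu
  exact hthin.1 i (Or.inr hi) j (Or.inr hj)

/-- The step in terms of the relative position. -/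
theorem Mem.step_rel {S : Sys Δ G p} (hth : Δ.Thick) (hp2 : p ≠ 2) {J : Set I} {P : Subgroup G}
    {x y : C} {w : W} (hx : t.Mem S J P x) (hy : t.Mem S J P y) (hw : t.Rel J x y w) {i : I}
    (hi : ℓ (w * cs.simple i) < ℓ w) :
    t.Dsc J w i ∧ ∃ y1, t.Rel J x y1 (w * cs.simple i) ∧ t.Rel J y1 y (cs.simple i) ∧
      t.Mem S J P y1 := by
  obtain ⟨a, ha, b, hb, rfl, hpos⟩ := hw
  obtain ⟨hd, y1, h1, h2, h3⟩ := (hx.congr ha).step hth hp2 (hy.congr hb) hpos hi
  refine ⟨hd, y1, ?_, ?_, h3⟩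
  · exact ⟨a, ha, y1, Δ.self_mem_Res _ _, h1, hpos.mul hd⟩
  · exact ⟨y1, Δ.self_mem_Res _ _, b, hb, h2, hpos.simple hd⟩

theorem Mem.descents_rel {S : Sys Δ G p} (hth : Δ.Thick) (hp2 : p ≠ 2) {J : Set I}
    {P : Subgroup G} {x y : C} {w : W} (hx : t.Mem S J P x) (hy : t.Mem S J P y)
    (hw : t.Rel J x y w) {i j : I} (hi : ℓ (w * cs.simple i) < ℓ w)
    (hj : ℓ (w * cs.simple j) < ℓ w) :
    cs.simple i * cs.simple j = cs.simple j * cs.simple i := by
  obtain ⟨a, ha, b, hb, rfl, hpos⟩ := hw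
  exact (hx.congr ha).descents hth hp2 (hy.congr hb) hpos hi hj

/-- A panel contains at most two members. -/
theorem Mem.eq_of_adj {S : Sys Δ G p} (hth : Δ.Thick) (hp2 : p ≠ 2) {J : Set I}
    {P : Subgroup G} {x y z : C} {i : I} (hx : t.Mem S J P x) (hy : t.Mem S J P y)
    (hz : t.Mem S J P z) (hxy : t.Rel J x y (cs.simple i)) (hxz : t.Rel J x z (cs.simple i)) :
    Δ.Res J y = Δ.Res J z := by
  have hi : ℓ (cs.simple i * cs.simple i) < ℓ (cs.simple i) := by
    rw [cs.simple_mul_simple_self, cs.length_one, cs.length_simple]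
    exact Nat.one_pos
  have hd := (hx.step_rel hth hp2 hy hxy hi).1
  have hsub : J ⊆ J ∪ {i} := Set.subset_union_left
  have hst : ∀ k ∈ J ∪ {i}, t.σ k ∈ J ∪ {i} := by
    rintro k (hk | hk)
    · left; exact hx.gd.1 k hk
    · right
      rw [Set.mem_singleton_iff] at hk ⊢
      rw [hk, hd.σ]
  have hmem : cs.simple i ∈ WJ cs (J ∪ {i}) := simple_mem_WJ cs (Or.inr rfl)
  have hlong : cs.simple i * wJ cs J = wJ cs (J ∪ {i}) := by
    have hl := hxy.pos.par.minR
    have hc : cs.simple i * wJ cs J = wJ cs J * cs.simple i := hxy.pos.par.longest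
    refine F.eq_wJ_of_descents (mul_mem hmem (WJ_mono cs hsub (F.wJ_mem J))) fun k hk => ?_
    have h0 := hl _ (F.wJ_mem J)
    rw [cs.length_simple] at h0
    rcases hk with hk | hk
    · have h1 := hl _ (mul_mem (F.wJ_mem J) (simple_mem_WJ cs hk))
      have h2 := F.len_wJ_mul (simple_mem_WJ cs hk)
      rw [cs.length_simple] at h1 h2
      rw [mul_assoc]
      omega
    · rw [Set.mem_singleton_iff] at hk
      rw [hk, hc, mul_assoc, cs.simple_mul_simple_self, mul_one, ← hc]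
      omega
  have hAd : Ad cs t.φ t.σ (J ∪ {i}) J J (cs.simple i) :=
    ⟨hst, hx.gd.1, hx.gd.1, hsub, hsub, hmem, hxy.pos.fix, hxy.pos.par, hlong⟩
  have hne : cs.simple i ≠ 1 := by
    intro h
    have := cs.length_simple i
    rw [h, cs.length_one] at this
    omega
  have hPD : t.PD (J ∪ {i}) J J (cs.simple i) x :=
    ⟨hAd, hne, ⟨i, by rw [hd.σ]; simp⟩, hx.gd⟩
  have hmemG : ∀ z, t.Mem S J P z → t.Rel J x z (cs.simple i) →
      Δ.Res J z ∈ t.Gds (J ∪ {i}) x ∧ Δ.Res J z ≠ Δ.Res J x := by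
    intro z hz hxz
    obtain ⟨b, hb, hxb⟩ := hxz.left (Δ.self_mem_Res J x)
    refine ⟨⟨J, b, hsub, by rw [mem_Res, hxb]; exact hmem, hz.gd.congr hb,
      (Δ.Res_eq_of_mem hb).symm⟩, fun h => hne (hxz.eq_one_iff.2 h.symm)⟩
  obtain ⟨hy1, hy2⟩ := hmemG y hy hxy
  obtain ⟨hz1, hz2⟩ := hmemG z hz hxz
  obtain ⟨u, huc, hu, _, huZ⟩ := hPD.trans S hth hp2 hy1 hz1 hy2 hz2
  have huP : u ∈ t.P S (Δ.Res J y) := by
    rw [hy.eq, ← hx.eq]
    exact ⟨huc, hu⟩
  rw [← huZ, smul_of_mem_UR S huP.2]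

/-- The relative position is multiplicative: adjacent case. -/
theorem Mem.mul_adj {S : Sys Δ G p} (hth : Δ.Thick) (hp2 : p ≠ 2) {J : Set I}
    {P : Subgroup G} {x y z : C} {i : I} {w : W} (hx : t.Mem S J P x) (hy : t.Mem S J P y)
    (hz : t.Mem S J P z) (hxy : t.Rel J x y w) (hyz : t.Rel J y z (cs.simple i)) :
    t.Rel J x z (w * cs.simple i) := by
  obtain ⟨w', hw'⟩ := Rel.exists hx.gd hz.gd
  by_cases h1 : ℓ (w * cs.simple i) < ℓ w
  · obtain ⟨-, y1, h2, h3, h4⟩ := hx.step_rel hth hp2 hy hxy h1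
    have h5 := h3.symm
    rw [cs.inv_simple] at h5
    have h6 := hy.eq_of_adj hth hp2 h4 hz h5 hyz
    exact h2.congr rfl h6
  by_cases h2 : ℓ (w' * cs.simple i) < ℓ w'
  · obtain ⟨-, y1, h2, h3, h4⟩ := hx.step_rel hth hp2 hz hw' h2
    have h5 := h3.symm
    have h7 := hyz.symm
    rw [cs.inv_simple] at h5 h7
    have h6 := hz.eq_of_adj hth hp2 h4 hy h5 h7
    have h8 := (h2.congr rfl h6).unique hxy
    rw [← h8, cs.simple_mul_simple_cancel_right]
    exact hw'
  · exfalso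
    obtain ⟨c, hc, hxc⟩ := hxy.left (Δ.self_mem_Res J x)
    obtain ⟨d, hd, hxd⟩ := hw'.left (Δ.self_mem_Res J x)
    obtain ⟨e, he, hye⟩ := hyz.left (Δ.self_mem_Res J y)
    have hsub : J ⊆ J ∪ {i} := Set.subset_union_left
    have hc' : c ∈ Δ.Res (J ∪ {i}) y := Δ.Res_mono hsub y hc
    have hd' : d ∈ Δ.Res (J ∪ {i}) y := by
      have h3 : e ∈ Δ.Res (J ∪ {i}) y := by
        rw [mem_Res, hye]; exact simple_mem_WJ cs (Or.inr rfl)
      have h4 : d ∈ Δ.Res J e := by rw [Δ.Res_eq_of_mem he]; exact hd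
      exact Δ.mem_Res_trans h3 (Δ.Res_mono hsub e h4)
    have h3 : Δ.IsProj (J ∪ {i}) y x c :=
      Δ.isProj_of_isMinR hc' (by rw [hxc]; exact hxy.pos.minR h1)
    have h4 : Δ.IsProj (J ∪ {i}) y x d :=
      Δ.isProj_of_isMinR hd' (by rw [hxd]; exact hw'.pos.minR h2)
    have h5 : c = d := h3.unique h4
    have h6 : Δ.Res J y = Δ.Res J z := by
      rw [← Δ.Res_eq_of_mem hc, ← Δ.Res_eq_of_mem hd, h5]
    have h7 := hyz.eq_one_iff.2 h6
    have h8 := cs.length_simple i
    rw [h7, cs.length_one] at h8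
    omega

/-- **The relative position is multiplicative.** -/
theorem Mem.mul {S : Sys Δ G p} (hth : Δ.Thick) (hp2 : p ≠ 2) {J : Set I}
    {P : Subgroup G} {x y z : C} {w v : W} (hx : t.Mem S J P x) (hy : t.Mem S J P y)
    (hz : t.Mem S J P z) (hxy : t.Rel J x y w) (hyz : t.Rel J y z v) :
    t.Rel J x z (w * v) := by
  induction hn : ℓ v using Nat.strong_induction_on generalizing v z with
  | _ n ih =>
    by_cases hv : v = 1
    · have h1 := hyz.eq_one_iff.1 hv
      rw [hv, mul_one]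
      exact hxy.congr rfl h1
    · obtain ⟨i, hi⟩ := cs.exists_rightDescent_of_ne_one hv
      have hi' : ℓ (v * cs.simple i) < ℓ v := hi
      obtain ⟨-, z1, h1, h2, h3⟩ := hy.step_rel hth hp2 hz hyz hi'
      have h4 := ih _ (by rw [← hn]; exact hi') h3 h1 rfl
      have h5 := hx.mul_adj hth hp2 h3 hz h4 h2
      rwa [← mul_assoc, cs.simple_mul_simple_cancel_right] at h5

/-! ### The normaliser of `P` -/

omit F [Finite G] hp [Finite C] in
/-- `g` normalises `P`. -/
theorem P_smul_set (S : Sys Δ G p) {Q : Set C} {g : G} (hg : g ∈ t.cent) {u : G} :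
    g * u * g⁻¹ ∈ t.P S (g • Q) ↔ u ∈ t.P S Q := by
  constructor
  · intro h
    refine ⟨?_, S.conj_mem_UR_iff.1 h.2⟩
    have h1 := t.cent.mul_mem (t.cent.mul_mem (t.cent.inv_mem hg) h.1) hg
    have h2 : g⁻¹ * (g * u * g⁻¹) * g = u := by group
    rwa [h2] at h1
  · intro h
    exact ⟨t.cent.mul_mem (t.cent.mul_mem hg h.1) (t.cent.inv_mem hg), S.conj_mem_UR_iff.2 h.2⟩

omit [Finite G] hp [Finite C] in
theorem Mem.smul {S : Sys Δ G p} {J : Set I} {P : Subgroup G} {y : C} (h : t.Mem S J P y) {g : G}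
    (hg : g ∈ t.cent) (hn : ∀ u, u ∈ P ↔ g * u * g⁻¹ ∈ P) : t.Mem S J P (g • y) := by
  refine ⟨gd_smul S h.gd hg, ?_⟩
  ext u
  have h1 : g * (g⁻¹ * u * g) * g⁻¹ = u := by group
  rw [← S.smul_Res, ← h1, P_smul_set S hg, h.eq]
  exact hn _

/-- The relative position of `Res J x` and of its image under an element of the normaliser of `P` in
the centraliser. -/
theorem exists_posHom (S : Sys Δ G p) (hth : Δ.Thick) (hp2 : p ≠ 2) {J : Set I} {x : C}
    (h : t.Gd J x) {N : Subgroup G} (hN : ∀ g, g ∈ N ↔ g ∈ t.cent ∧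
      ∀ u, u ∈ t.P S (Δ.Res J x) ↔ g * u * g⁻¹ ∈ t.P S (Δ.Res J x)) :
    ∃ f : N →* W, ∀ g : N, t.Rel J x ((g : G) • x) (f g) := by
  have hx : t.Mem S J (t.P S (Δ.Res J x)) x := ⟨h, rfl⟩
  have hmem : ∀ g : N, t.Mem S J (t.P S (Δ.Res J x)) ((g : G) • x) := fun g =>
    hx.smul ((hN _).1 g.2).1 ((hN _).1 g.2).2
  choose f hf using fun g : N => Rel.exists (t := t) (J := J) h (hmem g).gd
  refine ⟨MonoidHom.mk' f fun a b => ?_, hf⟩
  have h1 := (hf b).smul S (a : G)
  have h2 : t.Rel J ((a : G) • x) (((a * b : N) : G) • x) (f b) := by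
    rw [Subgroup.coe_mul, mul_smul]
    exact h1
  exact (hf (a * b)).unique (hx.mul hth hp2 (hmem a) (hmem (a * b)) (hf a) h2)

/-- The normaliser of `P` in the centraliser as a subgroup. -/
def NP (t : Tw Δ G) (P : Subgroup G) : Subgroup G where
  carrier := {g | g ∈ t.cent ∧ ∀ u, u ∈ P ↔ g * u * g⁻¹ ∈ P}
  one_mem' := ⟨one_mem _, fun u => by simp⟩
  mul_mem' := fun {a b} ha hb => ⟨mul_mem ha.1 hb.1, fun u => by
    rw [hb.2 u, ha.2]
    have h1 : a * (b * u * b⁻¹) * a⁻¹ = a * b * u * (a * b)⁻¹ := by group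
    rw [h1]⟩
  inv_mem' := fun {a} ha => ⟨inv_mem ha.1, fun u => by
    rw [ha.2 (a⁻¹ * u * a⁻¹⁻¹)]
    have h1 : a * (a⁻¹ * u * a⁻¹⁻¹) * a⁻¹ = u := by group
    rw [h1]⟩

omit [Finite G] hp in
theorem finite_types (Δ : Bldg cs C) [Nonempty C] : Finite W ∧ Finite I := by
  obtain ⟨x⟩ := ‹Nonempty C›
  have h1 : Function.Surjective (Δ.δ x) := fun w => Δ.exists_δ x w
  have h2 : Finite W := Finite.of_surjective _ h1
  exact ⟨h2, Finite.of_injective _ F.inj⟩

/-- **T3 (a).** The normaliser of `P` in the centraliser, modulo the stabiliser of the good residue,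
has exponent two. -/
theorem sq_smul_Res (S : Sys Δ G p) (hth : Δ.Thick) (hp2 : p ≠ 2) {J : Set I} {x : C}
    (h : t.Gd J x) {g : G} (hg : g ∈ t.cent)
    (hn : ∀ u, u ∈ t.P S (Δ.Res J x) ↔ g * u * g⁻¹ ∈ t.P S (Δ.Res J x)) :
    (g * g) • Δ.Res J x = Δ.Res J x := by
  have hne : Nonempty C := ⟨x⟩
  obtain ⟨hW, hI⟩ := finite_types Δ
  obtain ⟨f, hf⟩ := exists_posHom S hth hp2 h (N := t.NP (t.P S (Δ.Res J x))) fun g => Iff.rfl
  have hx : t.Mem S J (t.P S (Δ.Res J x)) x := ⟨h, rfl⟩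
  have hmem : ∀ g : t.NP (t.P S (Δ.Res J x)), t.Mem S J (t.P S (Δ.Res J x)) ((g : G) • x) :=
    fun g => hx.smul g.2.1 g.2.2
  have key := CoxTwo.sq_eq_one (cs := cs)
    (K := {w | ∃ y, t.Mem S J (t.P S (Δ.Res J x)) y ∧ t.Rel J x y w})
    (by
      rintro w ⟨y, hy, hw⟩ i hi
      obtain ⟨-, y1, h1, -, h3⟩ := hx.step_rel hth hp2 hy hw hi
      exact ⟨y1, h3, h1⟩)
    (Set.toFinite _) ⟨x, hx, Rel.one rfl⟩
    (by
      rintro w ⟨y, hy, hw⟩ i j hi hj
      exact hx.descents_rel hth hp2 hy hw hi hj)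
    (Ω := f.range)
    (by
      rintro _ ⟨a, rfl⟩ w ⟨y, hy, hw⟩
      exact ⟨(a : G) • y, hy.smul a.2.1 a.2.2,
        hx.mul hth hp2 (hmem a) (hy.smul a.2.1 a.2.2) (hf a) (hw.smul S _)⟩)
    (g := f ⟨g, hg, hn⟩) ⟨_, rfl⟩
  rw [← map_mul] at key
  have h1 := (hf (⟨g, hg, hn⟩ * ⟨g, hg, hn⟩)).eq_one_iff.1 key
  rw [S.smul_Res]
  exact h1.symm

omit F [Finite G] hp [Finite C] in
theorem mem_NP_of_smul (S : Sys Δ G p) {Q : Set C} {c : G} (hc : c ∈ t.cent) (h : c • Q = Q) :
    c ∈ t.NP (t.P S Q) := by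
  refine ⟨hc, fun u => ?_⟩
  have h1 := P_smul_set S (Q := Q) hc (u := u)
  rw [h] at h1
  exact h1.symm

/-- **T3 (b).** The stabiliser of the good residue is normalised by the normaliser of `P`. -/
theorem conj_smul_Res (S : Sys Δ G p) (hth : Δ.Thick) (hp2 : p ≠ 2) {J : Set I} {x : C}
    (h : t.Gd J x) {g : G} (hg : g ∈ t.cent)
    (hn : ∀ u, u ∈ t.P S (Δ.Res J x) ↔ g * u * g⁻¹ ∈ t.P S (Δ.Res J x)) {c : G} (hc : c ∈ t.cent)
    (hcx : c • Δ.Res J x = Δ.Res J x) : (g * c * g⁻¹) • Δ.Res J x = Δ.Res J x := by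
  obtain ⟨f, hf⟩ := exists_posHom S hth hp2 h (N := t.NP (t.P S (Δ.Res J x))) fun g => Iff.rfl
  have hcN := mem_NP_of_smul S hc hcx
  have h1 : f ⟨c, hcN⟩ = 1 := by
    rw [(hf ⟨c, hcN⟩).eq_one_iff]
    change Δ.Res J x = Δ.Res J (c • x)
    rw [← S.smul_Res, hcx]
  have h2 : f (⟨g, hg, hn⟩ * ⟨c, hcN⟩ * ⟨g, hg, hn⟩⁻¹) = 1 := by
    rw [map_mul, map_mul, h1, mul_one, map_inv, mul_inv_cancel]
  have h3 := (hf (⟨g, hg, hn⟩ * ⟨c, hcN⟩ * ⟨g, hg, hn⟩⁻¹)).eq_one_iff.1 h2
  rw [S.smul_Res]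
  exact h3.symm

end Tw

end Cfsg.Agent.FixBN
end
end

-- part: FixBN/Out
section
set_option linter.all false
open scoped Cfsg.Agent.FastGrp
/-!
THEOREM OUT, part T7: the assembly. If the normaliser in the centraliser of the group `P Q` is solvable
then every perfect subgroup of the centraliser is generated by `p`-elements of the centraliser.
-/

set_option autoImplicit false
set_option linter.unusedSectionVars false

open scoped Pointwise commutatorElement

namespace Cfsg.Agent.FixBN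

open Cfsg.Agent.Tits.Core Cfsg.Agent.Tits.Core.Bldg Cfsg.Agent.Tits.Exchange Cfsg.Agent.Tits
open Cfsg.Agent.FixBN.Cox Cfsg.Agent.Lib

variable {I : Type*} {M : CoxeterMatrix I} {W : Type*} [Group W] {cs : CoxeterSystem M W} {C : Type*}

variable {Δ : Bldg cs C} {G : Type*} [Group G] [MulAction G C] {p : ℕ} {t : Tw Δ G}
  [F : OppRes.Cox cs] [Finite G] [hp : Fact p.Prime] [Finite C]

namespace Tw

/-- The groups `P Q` are maximal among the `p`-subgroups of the centraliser. -/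
theorem P_max (S : Sys Δ G p) (hth : Δ.Thick) (hp2 : p ≠ 2) {J : Set I} {x : C} (h : t.Gd J x)
    {V : Subgroup G} (hV : V ≤ t.cent) (hVp : IsPGroup p V) (hle : t.P S (Δ.Res J x) ≤ V) :
    V = t.P S (Δ.Res J x) := by
  obtain ⟨K, z, hgz, hVz⟩ := exists_P S hth hV hVp
  have hcard := card_P_const S hth hp2 h hgz
  have h1 : t.P S (Δ.Res J x) = t.P S (Δ.Res K z) :=
    Subgroup.eq_of_le_of_card_ge (hle.trans hVz) hcard.le
  exact le_antisymm (hVz.trans h1.ge) hle

/-- The groups `P Q` are Sylow `p`-subgroups of the centraliser. -/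
theorem exists_sylow (S : Sys Δ G p) (hth : Δ.Thick) (hp2 : p ≠ 2) {J : Set I} {x : C}
    (h : t.Gd J x) : ∃ R : Sylow p ↥t.cent,
      (R : Subgroup ↥t.cent) = (t.P S (Δ.Res J x)).subgroupOf t.cent := by
  refine ⟨⟨(t.P S (Δ.Res J x)).subgroupOf t.cent,
    (P_isP S ⟨x, Δ.self_mem_Res _ _⟩ : IsPGroup p (t.P S (Δ.Res J x))).comap_subtype, ?_⟩, rfl⟩
  intro R hR hle
  have h1 : R.map t.cent.subtype = t.P S (Δ.Res J x) := by
    refine P_max S hth hp2 h (Subgroup.map_subtype_le R) (hR.map _) ?_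
    intro u hu
    exact ⟨⟨u, hu.1⟩, hle (Subgroup.mem_subgroupOf.2 hu), rfl⟩
  rw [← h1, Subgroup.subgroupOf, Subgroup.comap_map_eq_self_of_injective t.cent.subtype_injective]

/-- solvability of the quotient of the centraliser by the group generated by the `p`-elements -/
theorem isSolvable_quotient (S : Sys Δ G p) (hth : Δ.Thick) (hp2 : p ≠ 2) {J : Set I} {x : C}
    (h : t.Gd J x)
    (hN : Group.IsSolvable ↥(Subgroup.normalizer
      (((t.P S (Δ.Res J x)).subgroupOf t.cent : Subgroup ↥t.cent) : Set ↥t.cent))) :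
    ∃ _ : ((PComponents.pElem p t.cent).subgroupOf t.cent).Normal,
      Group.IsSolvable (↥t.cent ⧸ (PComponents.pElem p t.cent).subgroupOf t.cent) := by
  have hn := PComponents.pElem_normal_subgroupOf (p := p) t.cent
  refine ⟨hn, ?_⟩
  obtain ⟨R, hR⟩ := exists_sylow S hth hp2 h
  have hRO : (R : Subgroup ↥t.cent) ≤ (PComponents.pElem p t.cent).subgroupOf t.cent := by
    intro u hu
    obtain ⟨k, hk⟩ := R.isPGroup' ⟨u, hu⟩
    have hk' : u ^ p ^ k = 1 := by simpa using congrArg Subtype.val hk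
    refine Subgroup.mem_subgroupOf.2 (PComponents.mem_pElem (n := k) u.2 ?_)
    simpa using congrArg Subtype.val hk'
  have h1 := Sylow.normalizer_sup_eq_top' R hRO
  let f : ↥(Subgroup.normalizer (((t.P S (Δ.Res J x)).subgroupOf t.cent : Subgroup ↥t.cent) :
      Set ↥t.cent)) →* ↥t.cent ⧸ (PComponents.pElem p t.cent).subgroupOf t.cent :=
    (QuotientGroup.mk' _).comp (Subgroup.subtype _)
  refine Group.isSolvable_of_surjective (f := f) ?_
  intro y
  obtain ⟨g, rfl⟩ := QuotientGroup.mk_surjective y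
  have hg := Subgroup.mem_top g
  rw [← h1] at hg
  obtain ⟨n, hn', o, ho, rfl⟩ := Subgroup.mem_sup_of_normal_right.1 hg
  refine ⟨⟨n, by rw [← hR]; exact hn'⟩, ?_⟩
  change (QuotientGroup.mk n : ↥t.cent ⧸ (PComponents.pElem p t.cent).subgroupOf t.cent) =
    QuotientGroup.mk (n * o)
  rw [QuotientGroup.eq]
  rwa [inv_mul_cancel_left]

/-- **T7.** -/
theorem out (S : Sys Δ G p) (hth : Δ.Thick) (hp2 : p ≠ 2) {J : Set I} {x : C} (h : t.Gd J x)
    (h3 : ∀ g ∈ t.cent, (∀ u, u ∈ t.P S (Δ.Res J x) ↔ g * u * g⁻¹ ∈ t.P S (Δ.Res J x)) →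
      (g * g) • Δ.Res J x = Δ.Res J x)
    (h3' : ∀ g ∈ t.cent, (∀ u, u ∈ t.P S (Δ.Res J x) ↔ g * u * g⁻¹ ∈ t.P S (Δ.Res J x)) →
      ∀ c ∈ t.cent, c • Δ.Res J x = Δ.Res J x → (g * c * g⁻¹) • Δ.Res J x = Δ.Res J x)
    (h4 : Group.IsSolvable ↥(t.cent ⊓ MulAction.stabilizer G (Δ.Res J x))) {L : Subgroup G}
    (hL : L ≤ t.cent) (hLp : ⁅L, L⁆ = L) : L ≤ PComponents.pElem p t.cent := by
  have hNsol : Group.IsSolvable ↥(Subgroup.normalizer
      (((t.P S (Δ.Res J x)).subgroupOf t.cent : Subgroup ↥t.cent) : Set ↥t.cent)) := by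
    have hmem : ∀ g : ↥t.cent, g ∈ Subgroup.normalizer
        (((t.P S (Δ.Res J x)).subgroupOf t.cent : Subgroup ↥t.cent) : Set ↥t.cent) →
        ∀ u, u ∈ t.P S (Δ.Res J x) ↔ (g : G) * u * (g : G)⁻¹ ∈ t.P S (Δ.Res J x) := by
      intro g hg u
      rw [Subgroup.mem_normalizer_iff] at hg
      constructor
      · intro hu
        exact Subgroup.mem_subgroupOf.1 ((hg ⟨u, hu.1⟩).1 (Subgroup.mem_subgroupOf.2 hu))
      · intro hu
        have huc : u ∈ t.cent := by
          have h1 := t.cent.mul_mem (t.cent.mul_mem (t.cent.inv_mem g.2) hu.1) g.2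
          have h2 : (g : G)⁻¹ * ((g : G) * u * (g : G)⁻¹) * g = u := by group
          rwa [h2] at h1
        exact Subgroup.mem_subgroupOf.1 ((hg ⟨u, huc⟩).2 (Subgroup.mem_subgroupOf.2 hu))
    set N := Subgroup.normalizer
      (((t.P S (Δ.Res J x)).subgroupOf t.cent : Subgroup ↥t.cent) : Set ↥t.cent) with hNdef
    let D : Subgroup ↥N :=
      { carrier := {n | ((n : ↥t.cent) : G) • Δ.Res J x = Δ.Res J x}
        one_mem' := one_smul _ _
        mul_mem' := by
          intro a b (ha : ((a : ↥t.cent) : G) • Δ.Res J x = Δ.Res J x)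
            (hb : ((b : ↥t.cent) : G) • Δ.Res J x = Δ.Res J x)
          change (((a : ↥t.cent) : G) * ((b : ↥t.cent) : G)) • Δ.Res J x = Δ.Res J x
          rw [mul_smul, hb, ha]
        inv_mem' := by
          intro a (ha : ((a : ↥t.cent) : G) • Δ.Res J x = Δ.Res J x)
          change (((a : ↥t.cent) : G)⁻¹) • Δ.Res J x = Δ.Res J x
          rw [inv_smul_eq_iff, ha] }
    have hD : ∀ n : ↥N, n ∈ D ↔ ((n : ↥t.cent) : G) • Δ.Res J x = Δ.Res J x := fun n => Iff.rfl
    have hDn : D.Normal := by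
      constructor
      intro c hc g
      rw [hD] at hc ⊢
      exact h3' _ (g : ↥t.cent).2 (hmem _ g.2) _ (c : ↥t.cent).2 hc
    rw [Group.isSolvable_iff_subgroup_quotient D]
    constructor
    · let f : ↥D →* ↥(t.cent ⊓ MulAction.stabilizer G (Δ.Res J x)) :=
        { toFun := fun d => ⟨((d : ↥N) : ↥t.cent), ((d : ↥N) : ↥t.cent).2, d.2⟩
          map_one' := rfl
          map_mul' := fun _ _ => rfl }
      refine Group.isSolvable_of_isSolvable_injective (f := f) ?_
      intro a b hab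
      apply Subtype.ext
      apply Subtype.ext
      apply Subtype.ext
      have h1 := congrArg Subtype.val hab
      exact h1
    · have hsq : ∀ a : ↥N ⧸ D, a * a = 1 := by
        intro a
        obtain ⟨n, rfl⟩ := QuotientGroup.mk_surjective a
        rw [← QuotientGroup.mk_mul, QuotientGroup.eq_one_iff]
        exact h3 _ (n : ↥t.cent).2 (hmem _ n.2)
      refine Group.isSolvable_of_comm fun a b => ?_
      have h1 : ∀ c : ↥N ⧸ D, c⁻¹ = c := fun c => inv_eq_of_mul_eq_one_left (hsq c)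
      have h2 := h1 (a * b)
      rw [mul_inv_rev, h1, h1] at h2
      exact h2.symm
  obtain ⟨hn, hsol⟩ := isSolvable_quotient S hth hp2 h hNsol
  exact Reduce.le_pElem_of_isSolvable (N := PComponents.pElem p t.cent) le_rfl hsol hL hLp

end Tw

end Cfsg.Agent.FixBN
end
end
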