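import Mathlib
import Cfsg.Agent.FixBN.Gates
import Cfsg.Agent.FixBN.ExpTwo_m3
import Cfsg.Agent.FastGrp
import Cfsg.Agent.Prune
set_option linter.all false
prune_inst 0x7f00000000000000000000000000000000000000000000000000000000000000000000000000000000000000000000000000000000000000000000000000000000000000000000000000000000000000003fffffffffffffffffffffffffffbeffbdffffffff
open scoped Cfsg.Agent.FastGrp

-- part: FixBN/GatesTwo
section
/-!
THEOREM LO, the abstract part, continued: the normal `2`-subgroups of a group with a gate system.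
-/

set_option autoImplicit false
set_option linter.unusedSectionVars false

open scoped Pointwise commutatorElement

namespace Cfsg.Agent.FixBN.Gates

variable {H : Type*} [Group H] {p : ℕ}
variable {Pa : Set (Set (Sylow p H))} {d : Sylow p H → Sylow p H → ℕ}

/-- A perfect subgroup is contained in every normal subgroup with solvable quotient. -/
theorem perfect_le {N : Subgroup H} [hn : N.Normal] (hsol : Group.IsSolvable (H ⧸ N))
    {P : Subgroup H} (hP : ⁅P, P⁆ = P) : P ≤ N := by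
  let f : ↥P →* H ⧸ N := (QuotientGroup.mk' N).comp P.subtype
  have h1 : f.range = ⊥ := by
    have h2 : Group.IsPerfect ↥P := Subgroup.isPerfect_iff.mpr hP
    have h3 : Group.IsPerfect f.range := Group.IsPerfect.ofSurjective f.rangeRestrict_surjective
    by_contra hne
    have h4 : Nontrivial f.range := (Subgroup.nontrivial_iff_ne_bot _).mpr hne
    exact Group.IsPerfect.not_isSolvable f.range inferInstance
  intro x hx
  have h2 : f ⟨x, hx⟩ = 1 := by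
    have : f ⟨x, hx⟩ ∈ f.range := ⟨_, rfl⟩
    rw [h1] at this
    exact this
  exact (QuotientGroup.eq_one_iff (N := N) x).mp h2

/-- A perfect subgroup of a normal subgroup `X K`, `X` a `p`-group. -/
theorem perfect_le_of_sup [Finite H] {q : ℕ} [Fact q.Prime] {X K : Subgroup H} [K.Normal]
    (hX : IsPGroup q X) {P : Subgroup H} (hP : ⁅P, P⁆ = P) (hle : P ≤ X ⊔ K) : P ≤ K := by
  let f : ↥P →* H ⧸ K := (QuotientGroup.mk' K).comp P.subtype
  have h0 : f.range ≤ X.map (QuotientGroup.mk' K) := by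
    rintro _ ⟨x, rfl⟩
    have h1 : (x : H) ∈ X ⊔ K := hle x.2
    obtain ⟨y, hy, z, hz, he⟩ := Subgroup.mem_sup_of_normal_right.1 h1
    refine ⟨y, hy, ?_⟩
    change (QuotientGroup.mk y : H ⧸ K) = QuotientGroup.mk (x : H)
    rw [QuotientGroup.eq, ← he, inv_mul_cancel_left]
    exact hz
  have h1 : f.range = ⊥ := by
    have h2 : Group.IsPerfect ↥P := Subgroup.isPerfect_iff.mpr hP
    have h3 : Group.IsPerfect f.range := Group.IsPerfect.ofSurjective f.rangeRestrict_surjective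
    have h5 : IsPGroup q ↥f.range := (hX.map (QuotientGroup.mk' K)).to_le h0
    have h6 : Group.IsNilpotent ↥f.range := h5.isNilpotent
    by_contra hne
    have h4 : Nontrivial f.range := (Subgroup.nontrivial_iff_ne_bot _).mpr hne
    exact Group.IsPerfect.not_isSolvable f.range inferInstance
  intro x hx
  have h2 : f ⟨x, hx⟩ = 1 := by
    have : f ⟨x, hx⟩ ∈ f.range := ⟨_, rfl⟩
    rw [h1] at this
    exact this
  exact (QuotientGroup.eq_one_iff (N := K) x).mp h2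

namespace GSys

variable [Finite H] {X : Subgroup H} [hX : X.Normal] [hp : Fact p.Prime]

include hX hp in
/-- A moved panel has `p + 1` elements. -/
theorem card_sdiff (hG : GSys Pa d) (h2 : IsPGroup 2 X) (hp2 : p ≠ 2)
    {S : Set (Sylow p H)} (hS : S ∈ Pa) (hM : Mv X S) {a : Sylow p H} (ha : a ∈ S) {b : Sylow p H}
    (hb : b ∈ S) (hba : b ≠ a) :
    MulAction.orbit ↥(a : Subgroup H) b = S \ {a} ∧ Nat.card (MulAction.orbit ↥(a : Subgroup H) b) = p := by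
  classical
  have hpo : Odd p := hp.out.odd_of_ne_two hp2
  have h1 : MulAction.orbit ↥(a : Subgroup H) b = S \ {a} := by
    ext e
    constructor
    · rintro ⟨⟨u, hu⟩, rfl⟩
      have huS := hG.self S hS a ha u hu
      refine ⟨?_, ?_⟩
      · change u • b ∈ S
        rw [← huS]; exact Set.smul_mem_smul_set hb
      · intro he
        have he' : u • b = a := he
        rw [← smul_self (a := a) hu] at he'
        exact hba (smul_left_cancel u he')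
    · rintro ⟨he, hea⟩
      obtain ⟨u, hu, _, hue⟩ := (hG.gate_self hS ha).tr b hb e he hba hea
      exact ⟨⟨u, hu⟩, hue⟩
  have h3 : MulAction.orbit ↥(X ⊓ MulAction.stabilizer H S) a = S := by
    ext e
    constructor
    · rintro ⟨⟨u, hu, huS⟩, rfl⟩
      change u • a ∈ S
      have huS' : u • S = S := huS
      rw [← huS']; exact Set.smul_mem_smul_set ha
    · intro he
      obtain ⟨c, hc, hcS, hce⟩ := hM.tr hG hS ha he
      exact ⟨⟨c, hc, hcS⟩, hce⟩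
  obtain ⟨m, hm⟩ := a.isPGroup'.card_orbit b
  have hX2 : IsPGroup 2 ↥(X ⊓ MulAction.stabilizer H S) := h2.to_inf_left
  obtain ⟨n, hn⟩ := hX2.card_orbit a
  rw [h3, Nat.card_coe_set_eq] at hn
  have h4 : (S \ {a}).ncard + 1 = S.ncard := Set.ncard_sdiff_singleton_add_one ha (Set.toFinite _)
  have hm' := hm
  rw [h1, Nat.card_coe_set_eq] at hm'
  rw [hm', hn] at h4
  have hm0 : m ≠ 0 := by
    intro h0
    rw [h0, pow_zero, Set.ncard_eq_one] at hm'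
    obtain ⟨e, he⟩ := hm'
    obtain ⟨f, hf, hfa, hfb⟩ := hG.three S hS a ha b hb
    have h5 : f ∈ S \ {a} := ⟨hf, hfa⟩
    have h6 : b ∈ S \ {a} := ⟨hb, hba⟩
    rw [he, Set.mem_singleton_iff] at h5 h6
    exact hfb (h5.trans h6.symm)
  have h7 := eq_one_of_pow hpo hp.out.one_lt hm0 h4
  refine ⟨h1, ?_⟩
  rw [hm, h7, pow_one]

include hX hp in
/-- (R) an element of `a` fixing a second point of a moved panel is trivial on the panel. -/
theorem regular (hG : GSys Pa d) (h2 : IsPGroup 2 X) (hp2 : p ≠ 2)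
    {S : Set (Sylow p H)} (hS : S ∈ Pa) (hM : Mv X S) {a : Sylow p H} (ha : a ∈ S) {b : Sylow p H}
    (hb : b ∈ S) (hba : b ≠ a) {k : H} (hk : k ∈ a) (hkb : k • b = b) :
    ∀ e ∈ S, k • e = e := by
  obtain ⟨h1, hc⟩ := hG.card_sdiff h2 hp2 hS hM ha hb hba
  have hidx : (MulAction.stabilizer ↥(a : Subgroup H) b).index = p := by
    rw [MulAction.index_stabilizer, ← Nat.card_coe_set_eq, hc]
  have hnorm : (MulAction.stabilizer ↥(a : Subgroup H) b).Normal := by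
    refine Subgroup.normal_of_index_eq_minFac_card ?_
    obtain ⟨n, hn⟩ := (IsPGroup.iff_card (p := p) (G := ↥(a : Subgroup H))).1 a.isPGroup'
    have hn0 : n ≠ 0 := by
      intro h0
      rw [h0, pow_zero] at hn
      have h3 := Subgroup.index_dvd_card (MulAction.stabilizer ↥(a : Subgroup H) b)
      rw [hidx, hn] at h3
      exact hp.out.one_lt.ne' (Nat.dvd_one.1 h3)
    rw [hidx, hn, hp.out.pow_minFac hn0]
  intro e he
  by_cases hea : e = a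
  · rw [hea]; exact smul_self hk
  obtain ⟨u, hu, huS, hue⟩ := (hG.gate_self hS ha).tr b hb e he hba hea
  have hkm : (⟨k, hk⟩ : ↥(a : Subgroup H)) ∈ MulAction.stabilizer ↥(a : Subgroup H) b := hkb
  have h3 := hnorm.conj_mem _ hkm (⟨u, hu⟩ : ↥(a : Subgroup H))⁻¹
  have h4 : (u⁻¹ * k * u⁻¹⁻¹) • b = b := h3
  rw [inv_inv, mul_smul, mul_smul, inv_smul_eq_iff, hue] at h4
  exact h4

theorem coe_inf_smul (a : Sylow p H) (e c : H) :
    Nat.card ↥(((e • a : Sylow p H) : Subgroup H) ⊓ ((c • a : Sylow p H) : Subgroup H)) =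
      Nat.card ↥((a : Subgroup H) ⊓ (((e⁻¹ * c) • a : Sylow p H) : Subgroup H)) := by
  refine Nat.card_congr ⟨fun x => ⟨e⁻¹ * x.1 * e, ?_, ?_⟩, fun x => ⟨e * x.1 * e⁻¹, ?_, ?_⟩, ?_, ?_⟩
  · exact mem_smul_iff.1 x.2.1
  · have h1 : x.1 ∈ (c • a : Sylow p H) := x.2.2
    change e⁻¹ * x.1 * e ∈ ((e⁻¹ * c) • a : Sylow p H)
    rw [mem_smul_iff] at h1 ⊢
    have e1 : (e⁻¹ * c)⁻¹ * (e⁻¹ * x.1 * e) * (e⁻¹ * c) = c⁻¹ * x.1 * c := by group
    rw [e1]; exact h1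
  · change e * x.1 * e⁻¹ ∈ (e • a : Sylow p H)
    rw [mem_smul_iff]
    have e1 : e⁻¹ * (e * x.1 * e⁻¹) * e = x.1 := by group
    rw [e1]; exact x.2.1
  · change e * x.1 * e⁻¹ ∈ (c • a : Sylow p H)
    have h1 : x.1 ∈ ((e⁻¹ * c) • a : Sylow p H) := x.2.2
    rw [mem_smul_iff] at h1 ⊢
    have e1 : c⁻¹ * (e * x.1 * e⁻¹) * c = (e⁻¹ * c)⁻¹ * x.1 * (e⁻¹ * c) := by group
    rw [e1]; exact h1
  · intro x; apply Subtype.ext; change e * (e⁻¹ * x.1 * e) * e⁻¹ = x.1; group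
  · intro x; apply Subtype.ext; change e⁻¹ * (e * x.1 * e⁻¹) * e = x.1; group

include hX hp in
/-- There is an element `c` of `X` such that `a ⊓ c • a` centralises `X`. -/
theorem exists_min (hG : GSys Pa d) (h2 : IsPGroup 2 X) (hp2 : p ≠ 2) (a : Sylow p H) :
    ∃ c ∈ X, ∀ k ∈ a, k ∈ (c • a : Sylow p H) → ∀ x ∈ X, k * x = x * k := by
  classical
  have hex : ∃ n, ∃ c ∈ X, Nat.card ↥((a : Subgroup H) ⊓ ((c • a : Sylow p H) : Subgroup H)) = n :=
    ⟨_, 1, one_mem _, rfl⟩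
  obtain ⟨c, hc, hn⟩ := Nat.find_spec hex
  have hmin : ∀ c' ∈ X, Nat.card ↥((a : Subgroup H) ⊓ ((c • a : Sylow p H) : Subgroup H)) ≤
      Nat.card ↥((a : Subgroup H) ⊓ ((c' • a : Sylow p H) : Subgroup H)) :=
    fun c' hc' => by rw [hn]; exact Nat.find_min' hex ⟨c', hc', rfl⟩
  clear hn
  -- `V = a ⊓ c • a` is trivial on the moved panels through `a`
  have hV : ∀ S ∈ Pa, Mv X S → a ∈ S → ∀ k ∈ a, k ∈ (c • a : Sylow p H) → ∀ e ∈ S, k • e = e := by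
    intro S hS hM ha k hk hk' b hb
    obtain ⟨c1, hc1, hg⟩ := hG.gate S hS (c • a)
    by_cases hne : c1 = a
    · rw [hne] at hg
      by_contra hkb
      have hba : b ≠ a := by
        intro h; rw [h] at hkb; exact hkb (smul_self hk)
      obtain ⟨e, he, heS, hea⟩ := hM.tr hG hS ha hb
      have hle : (b : Subgroup H) ⊓ ((c • a : Sylow p H) : Subgroup H) ≤
          (a : Subgroup H) ⊓ ((c • a : Sylow p H) : Subgroup H) := by
        intro x hx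
        have hxb : x ∈ b := hx.1
        have hxc : x ∈ (c • a : Sylow p H) := hx.2
        have h1 := hg.fix x hxc (hG.self S hS b hb x hxb)
        exact ⟨mem_of_smul_eq hxc h1, hxc⟩
      have hlt : (b : Subgroup H) ⊓ ((c • a : Sylow p H) : Subgroup H) <
          (a : Subgroup H) ⊓ ((c • a : Sylow p H) : Subgroup H) := by
        refine lt_of_le_of_ne hle fun heq => hkb ?_
        have h1 : k ∈ (b : Subgroup H) ⊓ ((c • a : Sylow p H) : Subgroup H) := by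
          rw [heq]; exact ⟨hk, hk'⟩
        exact smul_self (a := b) h1.1
      have h3 : Nat.card ↥((b : Subgroup H) ⊓ ((c • a : Sylow p H) : Subgroup H)) <
          Nat.card ↥((a : Subgroup H) ⊓ ((c • a : Sylow p H) : Subgroup H)) :=
        Set.ncard_lt_ncard (s := (((b : Subgroup H) ⊓ ((c • a : Sylow p H) : Subgroup H) : Subgroup H) : Set H))
          (t := (((a : Subgroup H) ⊓ ((c • a : Sylow p H) : Subgroup H) : Subgroup H) : Set H))
          hlt (Set.toFinite _)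
      rw [← hea, coe_inf_smul a e c] at h3
      exact absurd (hmin _ (mul_mem (inv_mem he) hc)) (not_le.2 h3)
    · have h1 := hg.fix k hk' (hG.self S hS a ha k hk)
      exact hG.regular h2 hp2 hS hM ha hc1 hne hk h1 b hb
  have hV2 : ∀ S ∈ Pa, Mv X S → a ∈ S → ∀ k ∈ a, k ∈ (c • a : Sylow p H) → ∀ e ∈ X, e • S = S →
      k * e = e * k := by
    intro S hS hM ha k hk hk' e he heS
    have hea : e • a ∈ S := by rw [← heS]; exact Set.smul_mem_smul_set ha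
    have h1 := hV S hS hM ha k hk hk' _ hea
    exact (comm_of_mem h2 hp2 he hk (mem_of_smul_eq hk h1)).symm
  refine ⟨c, hc, fun k hk hk' => ?_⟩
  intro x
  induction hn : d a (x • a) using Nat.strong_induction_on generalizing x with
  | _ n ih =>
    intro hx
    by_cases hxa : x • a = a
    · exact (comm_of_mem h2 hp2 hx hk (by rw [hxa]; exact hk)).symm
    obtain ⟨S, hS, hxS, c1, hc1, hg, hne, hlt⟩ := hG.desc a (x • a) (Ne.symm hxa)
    have hM : Mv X S := by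
      by_contra hM
      have h1 := hG.star h2 hp2 hS hM hx hxS
      exact hne (hG.gate_unique hS hg h1 hc1 hxS)
    obtain ⟨e, he, heS, hea⟩ := hM.tr hG hS hxS hc1
    have h1 : k * (e * x) = (e * x) * k := by
      refine ih (d a ((e * x) • a)) ?_ (e * x) rfl (mul_mem he hx)
      rw [mul_smul, hea, ← hn]
      exact hlt
    have heS' : (x⁻¹ * e * x) • (x⁻¹ • S) = x⁻¹ • S := by
      rw [← mul_smul]
      have e1 : x⁻¹ * e * x * x⁻¹ = x⁻¹ * e := by group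
      rw [e1, mul_smul, heS]
    have haS : a ∈ x⁻¹ • S := by
      rw [Set.mem_smul_set_iff_inv_smul_mem, inv_inv]
      exact hxS
    have h3 : k * (x⁻¹ * e * x) = (x⁻¹ * e * x) * k := by
      refine hV2 (x⁻¹ • S) (hG.smul S hS _) (hM.smul x⁻¹) haS k hk hk' _ ?_ heS'
      have := hX.conj_mem e he x⁻¹
      rwa [inv_inv] at this
    have h4 : Commute k (e * x) := h1
    have h5 : Commute k (x⁻¹ * e * x) := h3
    have h6 : Commute k ((e * x) * (x⁻¹ * e * x)⁻¹) := h4.mul_right h5.inv_right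
    have e1 : (e * x) * (x⁻¹ * e * x)⁻¹ = x := by group
    rw [e1] at h6
    exact h6

include hX hp in
/-- `X` and its centraliser are transitive on the chambers. -/
theorem conn (hG : GSys Pa d) (h2 : IsPGroup 2 X) (hp2 : p ≠ 2) (a b : Sylow p H) :
    ∃ h ∈ X ⊔ Subgroup.centralizer (X : Set H), h • a = b := by
  induction hn : d a b using Nat.strong_induction_on generalizing b with
  | _ n ih =>
    by_cases hab : a = b
    · exact ⟨1, one_mem _, by rw [one_smul, hab]⟩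
    obtain ⟨S, hS, hbS, c1, hc1, hg, hne, hlt⟩ := hG.desc a b hab
    obtain ⟨h, hh, hha⟩ := ih _ (by rw [← hn]; exact hlt) c1 rfl
    by_cases hM : Mv X S
    · obtain ⟨e, he, _, hee⟩ := hM.tr hG hS hc1 hbS
      refine ⟨e * h, mul_mem (Subgroup.mem_sup_left he) hh, ?_⟩
      rw [mul_smul, hha, hee]
    · obtain ⟨f, hf, hf1, hf2⟩ := hG.three S hS c1 hc1 b hbS
      obtain ⟨c, hc, hcen⟩ := hG.exists_min h2 hp2 f
      obtain ⟨u, hu, hu', hub⟩ := hG.key4 h2 hp2 hS hM hf hc hc1 hbS (Ne.symm hf1) (Ne.symm hf2)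
      have h3 := hcen u hu hu'
      refine ⟨u * h, mul_mem (Subgroup.mem_sup_right ?_) hh, ?_⟩
      · rw [Subgroup.mem_centralizer_iff]
        intro x hx
        exact (h3 x hx).symm
      · rw [mul_smul, hha, hub]

include hX hp in
/-- **THEOREM LO**, abstract form. -/
theorem perfect_le_centralizer (hG : GSys Pa d) (h2 : IsPGroup 2 X) (hp2 : p ≠ 2) (a : Sylow p H)
    (hN : Group.IsSolvable ↥(Subgroup.normalizer (a : Set H))) {P : Subgroup H}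
    (hP : ⁅P, P⁆ = P) : P ≤ Subgroup.centralizer (X : Set H) := by
  have hK : (Subgroup.centralizer (X : Set H)).Normal := inferInstance
  have hY : (X ⊔ Subgroup.centralizer (X : Set H)).Normal := inferInstance
  refine perfect_le_of_sup (q := 2) h2 hP (perfect_le (N := X ⊔ Subgroup.centralizer (X : Set H)) ?_ hP)
  let f : ↥(Subgroup.normalizer (a : Set H)) →* H ⧸ (X ⊔ Subgroup.centralizer (X : Set H)) :=
    (QuotientGroup.mk' _).comp (Subgroup.subtype _)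
  refine Group.isSolvable_of_surjective (f := f) ?_
  intro y
  obtain ⟨g, rfl⟩ := QuotientGroup.mk_surjective y
  obtain ⟨h, hh, hha⟩ := hG.conn h2 hp2 a (g • a)
  have h1 : h⁻¹ * g ∈ Subgroup.normalizer (a : Set H) := by
    refine Sylow.smul_eq_iff_mem_normalizer.1 ?_
    rw [mul_smul, ← hha, inv_smul_smul]
  refine ⟨⟨h⁻¹ * g, h1⟩, ?_⟩
  change (QuotientGroup.mk (h⁻¹ * g) : H ⧸ (X ⊔ Subgroup.centralizer (X : Set H))) = QuotientGroup.mk g
  rw [QuotientGroup.eq]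
  have e1 : (h⁻¹ * g)⁻¹ * g = g⁻¹ * h * g⁻¹⁻¹ := by group
  rw [e1]
  exact hY.conj_mem h hh g⁻¹

end GSys

end Cfsg.Agent.FixBN.Gates
end

-- part: FixBN/GatesBldg
section
/-!
THEOREM LO, the geometric part: the Sylow `p`-subgroups of the centraliser of an involutory automorphism
of a group with a split (B,N)-pair of odd characteristic `p` form a chamber system with gates.
-/

set_option autoImplicit false
set_option linter.unusedSectionVars false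

open scoped Pointwise commutatorElement

namespace Cfsg.Agent.FixBN

namespace Gates

variable {H : Type*} [Group H] {p : ℕ}

/-- A gate from transitivity only. -/
theorem gate_of_tr [Finite H] [hp : Fact p.Prime] {Sg : Set (Sylow p H)}
    (three : ∀ a ∈ Sg, ∀ b ∈ Sg, ∃ c ∈ Sg, c ≠ a ∧ c ≠ b) {a c : Sylow p H} (hc : c ∈ Sg)
    (tr : ∀ b ∈ Sg, ∀ b' ∈ Sg, b ≠ c → b' ≠ c → ∃ u ∈ a, u • Sg = Sg ∧ u • b = b')
    (trc : ∀ b ∈ Sg, ∀ b' ∈ Sg, b ≠ c → b' ≠ c → ∃ u ∈ c, u • Sg = Sg ∧ u • b = b') :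
    Gate a Sg c := by
  classical
  refine ⟨fun u hu huS => ?_, tr⟩
  by_contra hne
  have huc : u • c ∈ Sg := by rw [← huS]; exact Set.smul_mem_smul_set hc
  have h1 : MulAction.orbit ↥((a : Subgroup H) ⊓ MulAction.stabilizer H Sg) c = Sg := by
    ext e
    constructor
    · rintro ⟨⟨v, hv, hvS⟩, rfl⟩
      change v • c ∈ Sg
      have hvS' : v • Sg = Sg := hvS
      rw [← hvS']; exact Set.smul_mem_smul_set hc
    · intro he
      by_cases hec : e = c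
      · rw [hec]; exact MulAction.mem_orbit_self c
      obtain ⟨v, hv, hvS, hve⟩ := tr _ huc e he hne hec
      refine ⟨⟨v * u, mul_mem hv hu, ?_⟩, ?_⟩
      · change (v * u) • Sg = Sg
        rw [mul_smul, huS, hvS]
      · change (v * u) • c = e
        rw [mul_smul, hve]
  have hP1 : IsPGroup p ↥((a : Subgroup H) ⊓ MulAction.stabilizer H Sg) := a.isPGroup'.to_inf_left
  obtain ⟨i, hi⟩ := hP1.card_orbit c
  rw [h1, Nat.card_coe_set_eq] at hi
  obtain ⟨b, hb, hbc, _⟩ := three c hc c hc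
  have h2 : MulAction.orbit ↥((c : Subgroup H) ⊓ MulAction.stabilizer H Sg) b = Sg \ {c} := by
    ext e
    constructor
    · rintro ⟨⟨v, hv, hvS⟩, rfl⟩
      have hvS' : v • Sg = Sg := hvS
      refine ⟨?_, ?_⟩
      · change v • b ∈ Sg
        rw [← hvS']; exact Set.smul_mem_smul_set hb
      · intro he
        have he' : v • b = c := he
        rw [← smul_self (a := c) hv] at he'
        exact hbc (smul_left_cancel v he')
    · rintro ⟨he, hec⟩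
      obtain ⟨v, hv, hvS, hve⟩ := trc b hb e he hbc hec
      exact ⟨⟨v, hv, hvS⟩, hve⟩
  have hP2 : IsPGroup p ↥((c : Subgroup H) ⊓ MulAction.stabilizer H Sg) := c.isPGroup'.to_inf_left
  obtain ⟨j, hj⟩ := hP2.card_orbit b
  rw [h2, Nat.card_coe_set_eq] at hj
  have h3 : (Sg \ {c}).ncard + 1 = Sg.ncard := Set.ncard_sdiff_singleton_add_one hc (Set.toFinite _)
  rw [hi, hj] at h3
  have hj0 : j ≠ 0 := by
    intro h0
    rw [h0, pow_zero, Set.ncard_eq_one] at hj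
    obtain ⟨e, he⟩ := hj
    obtain ⟨f, hf, hfc, hfb⟩ := three c hc b hb
    have h5 : f ∈ Sg \ {c} := ⟨hf, hfc⟩
    have h6 : b ∈ Sg \ {c} := ⟨hb, hbc⟩
    rw [he, Set.mem_singleton_iff] at h5 h6
    exact hfb (h5.trans h6.symm)
  have hi0 : i ≠ 0 := by
    intro h0
    rw [h0, pow_zero] at h3
    have : 0 < p ^ j := pow_pos hp.out.pos j
    omega
  have h4 : p ∣ p ^ j := dvd_pow_self p hj0
  have h5 : p ∣ p ^ i := dvd_pow_self p hi0
  rw [← h3] at h5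
  exact hp.out.one_lt.ne' (Nat.dvd_one.1 ((Nat.dvd_add_right h4).1 h5))

end Gates

open Cfsg.Agent.Tits.Core Cfsg.Agent.Tits.Core.Bldg Cfsg.Agent.Tits.Exchange Cfsg.Agent.Tits
open Cfsg.Agent.FixBN.Cox Cfsg.Agent.Lib Cfsg.Agent.FixBN.Gates

variable {I : Type*} {M : CoxeterMatrix I} {W : Type*} [Group W] {cs : CoxeterSystem M W} {C : Type*}

local prefix:100 "ℓ" => cs.length

variable {Δ : Bldg cs C} {G : Type*} [Group G] [MulAction G C] {p : ℕ} {t : Tw Δ G}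
  [F : OppRes.Cox cs]

namespace Tw

/-- the gate of a good residue on a panel -/
theorem exists_gate {J : Set I} {x : C} (h : t.Gd J x) {T K K' : Set I} {b : W} {y : C}
    (hP : t.PD T K K' b y) :
    ∃ x' ∈ Δ.Res J x, ∃ (J'' L' : Set I) (b' v : W) (y1 : C), y1 ∈ Δ.Res T y ∧ Δ.δ x' y1 = v ∧
      Par cs J J'' v ∧ IsMinR cs T v ∧ t.PD T J'' L' b' y1 := by
  obtain ⟨x', hx', y', hy', hpar, hφ⟩ := parallel h hP.gd
  by_cases hmin : IsMinR cs T (Δ.δ x' y')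
  · exact ⟨x', hx', K, K', b, _, y', Δ.Res_mono hP.ad.sub'' y hy', rfl, hpar, hmin,
      hP.ad, hP.ne, hP.pan, hP.gd.congr hy'⟩
  · rw [isMinR_iff] at hmin
    push Not at hmin
    obtain ⟨i, hiT, hle⟩ := hmin
    have hi : ℓ (Δ.δ x' y' * cs.simple i) < ℓ (Δ.δ x' y') := by
      have h2 := cs.length_mul_simple_ne (Δ.δ x' y') i
      omega
    have hiK : i ∉ K := by
      intro hiK
      have h1 := hpar.minR _ (simple_mem_WJ cs hiK)
      omega
    have hTi : T = K ∪ {i, t.σ i} := by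
      obtain ⟨k, hk⟩ := hP.pan
      rw [hk] at hiT
      rcases hiT with h1 | h1 | h1
      · exact absurd h1 hiK
      · rw [h1]; exact hk
      · rw [Set.mem_singleton_iff] at h1
        rw [h1, t.σσ, Set.pair_comm]
        exact hk
    have hgx := h.congr hx'
    have hgy := hP.gd.congr hy'
    obtain ⟨v, b0, hvb, hb, hv, hφv, hφb, hb1, hpv, hpb, hst, hlong⟩ :=
      exists_step t.φ_simple t.σσ hpar h.1 hP.gd.1 hφ hi hTi
    have hl := hv b0 hb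
    obtain ⟨y1, hy1, hy1'⟩ := Δ.exists_between hvb hl
    have hTst : t.Stab T := hP.ad.stT
    have hAd : Ad cs t.φ t.σ T (conjSet cs T K b0) K b0 :=
      ⟨hTst, hst, hP.gd.1, fun k hk => hk.1, hP.ad.sub'', hb, hφb, hpb, hlong⟩
    have h1 : y' ∈ Δ.Res T y1 := by rw [mem_Res, hy1']; exact hb
    have hgd1 : t.Gd (conjSet cs T K b0) y1 := by
      refine gd_transfer' hgx hpv hy1 hφv hst hTst (fun k hk => hk.1) hv ?_
      have h2 : t.θ y' ∈ Δ.Res T y' := Δ.Res_mono hP.ad.sub'' y' hgy.θ_mem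
      have h3 := t.θ_mem_Res hTst (Δ.mem_Res_symm h1)
      exact Δ.mem_Res_trans (Δ.mem_Res_trans h1 h2) h3
    refine ⟨x', hx', conjSet cs T K b0, K, b0, v, y1, ?_, hy1, hpv, hv, hAd, hb1,
      hAd.panel t.φ_simple t.σσ hTi, hgd1⟩
    exact Δ.mem_Res_trans (Δ.Res_mono hP.ad.sub'' y hy') (Δ.mem_Res_symm h1)

/-- the Sylow subgroup `a` of the centraliser belongs to the set `Q` of chambers -/
def Rep (t : Tw Δ G) (S : Sys Δ G p) (a : Sylow p ↥t.cent) (Q : Set C) : Prop :=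
  ∀ u : ↥t.cent, u ∈ a ↔ (u : G) ∈ S.UR Q

/-- A thick panel. -/
structure TP (t : Tw Δ G) (T : Set I) (y : C) : Prop where
  pd : ∃ K K' b, t.PD T K K' b y
  three : ∀ Z1 ∈ t.Gds T y, ∀ Z2 ∈ t.Gds T y, ∃ Z3 ∈ t.Gds T y, Z3 ≠ Z1 ∧ Z3 ≠ Z2

/-- The Sylow subgroups of a panel. -/
def PS (t : Tw Δ G) (S : Sys Δ G p) (T : Set I) (y : C) : Set (Sylow p ↥t.cent) :=
  {a | ∃ Z ∈ t.Gds T y, t.Rep S a Z}

theorem Rep.eq {S : Sys Δ G p} {a b : Sylow p ↥t.cent} {Q : Set C} (ha : t.Rep S a Q)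
    (hb : t.Rep S b Q) : a = b := by
  ext u
  exact (ha u).trans (hb u).symm

theorem Rep.smul {S : Sys Δ G p} {a : Sylow p ↥t.cent} {Q : Set C} (ha : t.Rep S a Q)
    (g : ↥t.cent) : t.Rep S (g • a) ((g : G) • Q) := by
  intro u
  rw [mem_smul_iff, ha, ← S.conj_mem_UR_iff (g := (g : G))]
  have e1 : (g : G) * ((g⁻¹ * u * g : ↥t.cent) : G) * (g : G)⁻¹ = (u : G) := by
    simp only [Subgroup.coe_mul, Subgroup.coe_inv]
    group
  rw [e1]

theorem Rep.mem {S : Sys Δ G p} {a b : Sylow p ↥t.cent} {Z : Set C} (ha : t.Rep S a Z)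
    {u : ↥t.cent} (hu : u ∈ b) (h : (u : G) • Z = Z) : u ∈ a := by
  refine mem_of_smul_eq hu ?_
  have h1 := ha.smul u
  rw [h] at h1
  exact h1.eq ha

theorem Rep.smul_eq {S : Sys Δ G p} {a : Sylow p ↥t.cent} {J : Set I} {x : C}
    (ha : t.Rep S a (Δ.Res J x)) {u : ↥t.cent} (hu : u ∈ a) :
    (u : G) • Δ.Res J x = Δ.Res J x := smul_of_mem_UR S ((ha u).1 hu)

theorem UR_mono (S : Sys Δ G p) {Q Q' : Set C} (h : Q ⊆ Q') : S.UR Q' ≤ S.UR Q :=
  fun _ hu y hy => hu y (h hy)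

theorem mem_Gds_smul (S : Sys Δ G p) {T : Set I} {y : C} {g : G} (hg : g ∈ t.cent) {Z : Set C}
    (hZ : Z ∈ t.Gds T y) : g • Z ∈ t.Gds T (g • y) := by
  obtain ⟨J, z, hJ, hz, hgd, rfl⟩ := hZ
  exact ⟨J, g • z, hJ, S.smul_mem_Res hz, gd_smul S hgd hg, S.smul_Res g J z⟩

theorem TP.smul (S : Sys Δ G p) {T : Set I} {y : C} (h : t.TP T y) {g : G} (hg : g ∈ t.cent) :
    t.TP T (g • y) := by
  obtain ⟨⟨K, K', b, hP⟩, h3⟩ := h
  have hg' : g⁻¹ ∈ t.cent := inv_mem hg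
  refine ⟨⟨K, K', b, hP.ad, hP.ne, hP.pan, gd_smul S hP.gd hg⟩, ?_⟩
  intro Z1 hZ1 Z2 hZ2
  have h1 := mem_Gds_smul S hg' hZ1
  have h2 := mem_Gds_smul S hg' hZ2
  rw [inv_smul_smul] at h1 h2
  obtain ⟨Z3, hZ3, hn1, hn2⟩ := h3 _ h1 _ h2
  refine ⟨g • Z3, mem_Gds_smul S hg hZ3, ?_, ?_⟩
  · intro h; apply hn1; rw [← h, inv_smul_smul]
  · intro h; apply hn2; rw [← h, inv_smul_smul]

theorem TP.congr {T : Set I} {y y' : C} (h : t.TP T y) (hy : y' ∈ Δ.Res T y)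
    {K K' : Set I} {b : W} (hP : t.PD T K K' b y') : t.TP T y' := by
  refine ⟨⟨K, K', b, hP⟩, ?_⟩
  rw [Gds_congr hy]
  exact h.three

theorem PS_congr {S : Sys Δ G p} {T : Set I} {y y' : C} (h : y' ∈ Δ.Res T y) :
    t.PS S T y' = t.PS S T y := by
  unfold PS
  rw [Gds_congr h]

theorem smul_PS (S : Sys Δ G p) {T : Set I} {y : C} (g : ↥t.cent) :
    g • t.PS S T y = t.PS S T ((g : G) • y) := by
  ext a
  rw [Set.mem_smul_set_iff_inv_smul_mem]
  constructor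
  · rintro ⟨Z, hZ, ha⟩
    refine ⟨(g : G) • Z, mem_Gds_smul S g.2 hZ, ?_⟩
    have := ha.smul g
    rwa [smul_inv_smul] at this
  · rintro ⟨Z, hZ, ha⟩
    refine ⟨(g : G)⁻¹ • Z, ?_, ha.smul g⁻¹⟩
    have := mem_Gds_smul S (inv_mem g.2) hZ
    rwa [inv_smul_smul] at this

variable [Finite G] [hp : Fact p.Prime] [Finite C]

theorem rep_exists (S : Sys Δ G p) (hth : Δ.Thick) (hp2 : p ≠ 2) {J : Set I} {x : C}
    (h : t.Gd J x) : ∃ a, t.Rep S a (Δ.Res J x) := by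
  obtain ⟨a, ha⟩ := exists_sylow S hth hp2 h
  refine ⟨a, fun u => ?_⟩
  change u ∈ (a : Subgroup ↥t.cent) ↔ _
  rw [ha, Subgroup.mem_subgroupOf]
  exact ⟨fun h => h.2, fun h => ⟨u.2, h⟩⟩

theorem rep_of_Gds (S : Sys Δ G p) (hth : Δ.Thick) (hp2 : p ≠ 2) {T : Set I} {y : C} {Z : Set C}
    (hZ : Z ∈ t.Gds T y) : ∃ a, t.Rep S a Z := by
  obtain ⟨J, z, hJ, hz, hgd, rfl⟩ := hZ
  exact rep_exists S hth hp2 hgd

theorem exists_rep (S : Sys Δ G p) (hth : Δ.Thick) (hp2 : p ≠ 2) (a : Sylow p ↥t.cent) :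
    ∃ J x, t.Gd J x ∧ t.Rep S a (Δ.Res J x) := by
  obtain ⟨J, x, hgd, hle⟩ := exists_P S hth (V := (a : Subgroup ↥t.cent).map t.cent.subtype)
    (Subgroup.map_subtype_le _) (a.isPGroup'.map _)
  obtain ⟨R, hR⟩ := rep_exists S hth hp2 hgd
  have h1 : (a : Subgroup ↥t.cent) ≤ R := by
    intro u hu
    have h2 : (u : G) ∈ t.P S (Δ.Res J x) := hle ⟨u, hu, rfl⟩
    exact (hR u).2 h2.2
  have h3 : R = a := Sylow.ext (a.is_maximal' R.isPGroup' h1)
  exact ⟨J, x, hgd, h3 ▸ hR⟩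

theorem tr_self (S : Sys Δ G p) (hth : Δ.Thick) (hp2 : p ≠ 2) {T : Set I} {y : C} (hT : t.TP T y)
    {Z : Set C} (hZ : Z ∈ t.Gds T y) {a : Sylow p ↥t.cent} (ha : t.Rep S a Z) {Z1 Z2 : Set C}
    (h1 : Z1 ∈ t.Gds T y) (h2 : Z2 ∈ t.Gds T y) (hn1 : Z1 ≠ Z) (hn2 : Z2 ≠ Z) :
    ∃ u ∈ a, ((u : ↥t.cent) : G) • Z1 = Z2 := by
  obtain ⟨K, K', b, hP⟩ := hT.pd
  obtain ⟨L, L', c, z, rfl, hz, hPD⟩ := hP.of_mem hZ
  rw [← Gds_congr hz] at h1 h2
  obtain ⟨u, huc, hu, _, huZ⟩ := hPD.trans S hth hp2 h1 h2 hn1 hn2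
  exact ⟨⟨u, huc⟩, (ha _).2 hu, huZ⟩

theorem rep_inj (S : Sys Δ G p) (hth : Δ.Thick) (hp2 : p ≠ 2) {T : Set I} {y : C} (hT : t.TP T y)
    {Z1 Z2 : Set C} (h1 : Z1 ∈ t.Gds T y) (h2 : Z2 ∈ t.Gds T y) {a : Sylow p ↥t.cent}
    (ha1 : t.Rep S a Z1) (ha2 : t.Rep S a Z2) : Z1 = Z2 := by
  by_contra hne
  obtain ⟨Z3, hZ3, hn1, hn2⟩ := hT.three _ h1 _ h2
  obtain ⟨u, hu, huZ⟩ := tr_self S hth hp2 hT h1 ha1 h2 hZ3 (Ne.symm hne) hn1
  obtain ⟨J, z, hJ, hz, hgd, rfl⟩ := h2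
  rw [ha2.smul_eq hu] at huZ
  exact hn2 huZ.symm

theorem mem_UR_of_two (S : Sys Δ G p) (hth : Δ.Thick) {T : Set I} {y : C}
    (hT : t.TP T y) {Z Z' : Set C} (hZ : Z ∈ t.Gds T y) (hZ' : Z' ∈ t.Gds T y) (hne : Z' ≠ Z)
    {u : G} (hu : u ∈ S.UR Z) (hu' : u ∈ S.UR Z') : u ∈ S.UR (Δ.Res T y) := by
  obtain ⟨K, K', b, hP⟩ := hT.pd
  obtain ⟨L, L', c, z, rfl, hz, hPD⟩ := hP.of_mem hZ
  rw [← Gds_congr hz] at hZ'
  have h1 := hPD.mem_SS hZ' hne
  obtain ⟨z', hz', rfl⟩ := SS_all hPD.ad.par h1 (Δ.self_mem_Res _ _)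
  obtain ⟨z'', hz''⟩ := Δ.exists_δ z' (wJ cs L')
  have hzz : z'' ∈ Δ.Res L' z' := by rw [mem_Res, hz'']; exact F.wJ_mem L'
  have hopp : Δ.δ z z'' = wJ cs T := by
    have := Δ.δ_mul_of hz' hz'' (hPD.ad.par.minR _ (F.wJ_mem L'))
    rw [hPD.ad.long] at this
    exact this
  have h2 := S.mem_UR_of_fix hth (hu z (Δ.self_mem_Res _ _)) hopp (S.fix z'' u (hu' z'' hzz))
  rwa [Δ.Res_eq_of_mem hz] at h2

theorem gate_geo (S : Sys Δ G p) (hth : Δ.Thick) (hp2 : p ≠ 2) {J : Set I} {x : C}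
    (h : t.Gd J x) {T : Set I} {y : C} (hT : t.TP T y) :
    ∃ Z0 ∈ t.Gds T y,
      (∀ Z1 ∈ t.Gds T y, ∀ Z2 ∈ t.Gds T y, Z1 ≠ Z0 → Z2 ≠ Z0 →
        ∃ u ∈ t.cent, u ∈ S.UR (Δ.Res J x) ∧ u • Δ.Res T y = Δ.Res T y ∧ u • Z1 = Z2) ∧
      ∀ u ∈ S.UR (Δ.Res J x), u • Δ.Res T y = Δ.Res T y → u • Z0 = Z0 := by
  obtain ⟨K, K', b, hP⟩ := hT.pd
  obtain ⟨x', hx', J'', L', b', v, y1, hy1, hxy, hpar, hv, hPD⟩ := exists_gate h hP
  have hθ : ∀ Z ∈ t.Gds T y, t.θ '' Z = Z := by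
    rintro _ ⟨J, z, hJ, hz, hgd, rfl⟩
    exact image_Gd hgd
  refine ⟨Δ.Res J'' y1, ⟨J'', y1, hPD.ad.sub'', hy1, hPD.gd, rfl⟩, ?_, ?_⟩
  · intro Z1 h1 Z2 h2 hn1 hn2
    have h1' := h1
    have h2' := h2
    rw [← Gds_congr hy1] at h1' h2'
    obtain ⟨u, huc, hu, huM, huZ⟩ := trans_SS S hth hp2 (h.congr hx') hxy hpar hv hPD.ad hPD.θ_mem
      (hPD.mem_SS h1' hn1) (hPD.mem_SS h2' hn2) (hθ _ h1) (hθ _ h2)
    rw [Δ.Res_eq_of_mem hy1] at huM
    rw [Δ.Res_eq_of_mem hx'] at hu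
    exact ⟨u, huc, hu, huM, huZ⟩
  · intro u hu huM
    have hux : u • x' = x' := S.fix x' u (hu x' hx')
    have h1 : u • y1 ∈ Δ.Res T y1 := by
      rw [Δ.Res_eq_of_mem hy1, ← huM]
      exact Set.smul_mem_smul_set hy1
    have h2 : Δ.δ x' (u • y1) = v := by rw [← hxy, ← S.iso u x' y1, hux]
    have h3 := eq_of_isMinR hv hxy h2 h1
    rw [S.smul_Res, h3]

/-- the set of the Sylow subgroups of the thick panels -/
def Pas (t : Tw Δ G) (S : Sys Δ G p) : Set (Set (Sylow p ↥t.cent)) :=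
  {Sg | ∃ T y, t.TP T y ∧ Sg = t.PS S T y}

/-- the distances -/
def dset (t : Tw Δ G) (S : Sys Δ G p) (a b : Sylow p ↥t.cent) : Set ℕ :=
  {n | ∃ (J J' : Set I) (x y : C), t.Gd J x ∧ t.Gd J' y ∧ t.Rep S a (Δ.Res J x) ∧
    t.Rep S b (Δ.Res J' y) ∧ Par cs J J' (Δ.δ x y) ∧ t.φ (Δ.δ x y) = Δ.δ x y ∧ ℓ (Δ.δ x y) = n}

/-- the distance -/
noncomputable def dd (t : Tw Δ G) (S : Sys Δ G p) (a b : Sylow p ↥t.cent) : ℕ :=
  sInf (t.dset S a b)

theorem dset_nonempty (S : Sys Δ G p) (hth : Δ.Thick) (hp2 : p ≠ 2) (a b : Sylow p ↥t.cent) :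
    (t.dset S a b).Nonempty := by
  obtain ⟨J, x, hgx, hax⟩ := exists_rep S hth hp2 a
  obtain ⟨J', y, hgy, hby⟩ := exists_rep S hth hp2 b
  obtain ⟨x', hx', y', hy', hpar, hφ⟩ := parallel hgx hgy
  refine ⟨_, J, J', x', y', hgx.congr hx', hgy.congr hy', ?_, ?_, hpar, hφ, rfl⟩
  · rwa [Δ.Res_eq_of_mem hx']
  · rwa [Δ.Res_eq_of_mem hy']

theorem three_PS (S : Sys Δ G p) (hth : Δ.Thick) (hp2 : p ≠ 2) {T : Set I} {y : C}
    (hT : t.TP T y) : ∀ a ∈ t.PS S T y, ∀ b ∈ t.PS S T y, ∃ c ∈ t.PS S T y, c ≠ a ∧ c ≠ b := by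
  rintro a ⟨Za, hZa, ha⟩ b ⟨Zb, hZb, hb⟩
  obtain ⟨Z3, hZ3, hn1, hn2⟩ := hT.three _ hZa _ hZb
  obtain ⟨c, hc⟩ := rep_of_Gds S hth hp2 hZ3
  refine ⟨c, ⟨Z3, hZ3, hc⟩, ?_, ?_⟩
  · intro h
    exact hn1 (rep_inj S hth hp2 hT hZ3 hZa hc (h ▸ ha))
  · intro h
    exact hn2 (rep_inj S hth hp2 hT hZ3 hZb hc (h ▸ hb))

theorem self_PS (S : Sys Δ G p) {T : Set I} {y : C} {a : Sylow p ↥t.cent} (ha : a ∈ t.PS S T y)
    {u : ↥t.cent} (hu : u ∈ a) : u • t.PS S T y = t.PS S T y := by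
  obtain ⟨Z, ⟨J, z, hJ, hz, hgd, rfl⟩, hr⟩ := ha
  have h1 := hr.smul_eq hu
  have h2 : (u : G) • Δ.Res T z = Δ.Res T z := smul_Res_of_sub S hJ h1
  rw [smul_PS]
  refine PS_congr ?_
  rw [Δ.Res_eq_of_mem hz] at h2
  rw [← h2]
  exact Set.smul_mem_smul_set (Δ.self_mem_Res _ _)

theorem tr_PS_self (S : Sys Δ G p) (hth : Δ.Thick) (hp2 : p ≠ 2) {T : Set I} {y : C}
    (hT : t.TP T y) {c : Sylow p ↥t.cent} (hc : c ∈ t.PS S T y) :
    ∀ b ∈ t.PS S T y, ∀ b' ∈ t.PS S T y, b ≠ c → b' ≠ c →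
      ∃ u ∈ c, u • t.PS S T y = t.PS S T y ∧ u • b = b' := by
  rintro b ⟨Zb, hZb, hb⟩ b' ⟨Zb', hZb', hb'⟩ hn hn'
  have hcS := hc
  obtain ⟨Z, hZ, hr⟩ := hc
  obtain ⟨u, hu, huZ⟩ := tr_self S hth hp2 hT hZ hr hZb hZb'
    (fun h => hn (hb.eq (h ▸ hr))) (fun h => hn' (hb'.eq (h ▸ hr)))
  refine ⟨u, hu, self_PS S hcS hu, ?_⟩
  have h1 := hb.smul u
  rw [huZ] at h1
  exact h1.eq hb'

theorem gate_PS (S : Sys Δ G p) (hth : Δ.Thick) (hp2 : p ≠ 2) {T : Set I} {y : C}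
    (hT : t.TP T y) {a c : Sylow p ↥t.cent} {Q Z0 : Set C} (ha : t.Rep S a Q)
    (hZ0 : Z0 ∈ t.Gds T y) (hc : t.Rep S c Z0)
    (htr : ∀ Z1 ∈ t.Gds T y, ∀ Z2 ∈ t.Gds T y, Z1 ≠ Z0 → Z2 ≠ Z0 →
        ∃ u ∈ t.cent, u ∈ S.UR Q ∧ u • Δ.Res T y = Δ.Res T y ∧ u • Z1 = Z2) :
    Gate a (t.PS S T y) c := by
  refine gate_of_tr (three_PS S hth hp2 hT) ⟨Z0, hZ0, hc⟩ ?_
    (tr_PS_self S hth hp2 hT ⟨Z0, hZ0, hc⟩)
  rintro b ⟨Zb, hZb, hb⟩ b' ⟨Zb', hZb', hb'⟩ hn hn'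
  obtain ⟨u, huc, hu, huM, huZ⟩ := htr Zb hZb Zb' hZb'
    (fun h => hn (hb.eq (h ▸ hc))) (fun h => hn' (hb'.eq (h ▸ hc)))
  refine ⟨⟨u, huc⟩, (ha _).2 hu, ?_, ?_⟩
  · rw [smul_PS]
    refine PS_congr ?_
    change u • y ∈ Δ.Res T y
    rw [← huM]
    exact Set.smul_mem_smul_set (Δ.self_mem_Res _ _)
  · have h1 := hb.smul ⟨u, huc⟩
    have h2 : ((⟨u, huc⟩ : ↥t.cent) : G) • Zb = Zb' := huZ
    rw [h2] at h1
    exact h1.eq hb'

/-- The Sylow subgroups of the centraliser form a chamber system with gates. -/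
theorem gsys (S : Sys Δ G p) (hth : Δ.Thick) (hp2 : p ≠ 2) : GSys (t.Pas S) (t.dd S) where
  smul := by
    rintro _ ⟨T, y, hT, rfl⟩ g
    exact ⟨T, (g : G) • y, hT.smul S g.2, smul_PS S g⟩
  three := by
    rintro _ ⟨T, y, hT, rfl⟩
    exact three_PS S hth hp2 hT
  self := by
    rintro _ ⟨T, y, hT, rfl⟩ a ha u hu
    exact self_PS S ha hu
  ker := by
    rintro _ ⟨T, y, hT, rfl⟩
    refine ⟨(S.UR (Δ.Res T y)).subgroupOf t.cent, fun a => ⟨?_, ?_⟩⟩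
    · rintro ⟨Z, ⟨J, z, hJ, hz, hgd, rfl⟩, hr⟩ u hu
      refine (hr u).2 (UR_mono S ?_ (Subgroup.mem_subgroupOf.1 hu))
      rw [← Δ.Res_eq_of_mem hz]
      exact Δ.Res_mono hJ z
    · intro hK
      obtain ⟨J, x, hgx, hax⟩ := exists_rep S hth hp2 a
      obtain ⟨Z0, hZ0, htr, hfix⟩ := gate_geo S hth hp2 hgx hT
      obtain ⟨c, hc⟩ := rep_of_Gds S hth hp2 hZ0
      have hle : (c : Subgroup ↥t.cent) ≤ a := by
        intro g hg
        obtain ⟨Z1, hZ1, hn, _⟩ := hT.three _ hZ0 _ hZ0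
        have hg0 : (g : G) • Z0 = Z0 := by
          obtain ⟨J0, z0, hJ0, hz0, hgd0, rfl⟩ := hZ0
          exact hc.smul_eq hg
        have hgM : (g : G) • Δ.Res T y = Δ.Res T y := by
          obtain ⟨J0, z0, hJ0, hz0, hgd0, rfl⟩ := hZ0
          rw [← Δ.Res_eq_of_mem hz0]
          exact smul_Res_of_sub S hJ0 hg0
        have hg1 : (g : G) • Z1 ∈ t.Gds T y := smul_mem_Gds S g.2 hgM hZ1
        have hn1 : (g : G) • Z1 ≠ Z0 := by
          intro h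
          apply hn
          rw [← hg0] at h
          exact smul_left_cancel _ h
        obtain ⟨u, huc, hu, huM, huZ⟩ := htr _ hZ1 _ hg1 hn hn1
        have hua : (⟨u, huc⟩ : ↥t.cent) ∈ a := (hax _).2 hu
        have hu0 : u • Z0 = Z0 := hfix u hu huM
        have huc' : (⟨u, huc⟩ : ↥t.cent) ∈ c := hc.mem hua hu0
        obtain ⟨e, he⟩ := rep_of_Gds S hth hp2 hZ1
        have hk : (⟨u, huc⟩ : ↥t.cent)⁻¹ * g ∈ c := mul_mem (inv_mem huc') hg
        have hk1 : (((⟨u, huc⟩ : ↥t.cent)⁻¹ * g : ↥t.cent) : G) • Z1 = Z1 := by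
          change (u⁻¹ * (g : G)) • Z1 = Z1
          rw [mul_smul, ← huZ, inv_smul_smul]
        have hke : (⟨u, huc⟩ : ↥t.cent)⁻¹ * g ∈ e := he.mem hk hk1
        have hkM := mem_UR_of_two S hth hT hZ0 hZ1 hn ((hc _).1 hk) ((he _).1 hke)
        have hka : (⟨u, huc⟩ : ↥t.cent)⁻¹ * g ∈ a := hK (Subgroup.mem_subgroupOf.2 hkM)
        have e1 : g = ⟨u, huc⟩ * ((⟨u, huc⟩ : ↥t.cent)⁻¹ * g) := by group
        rw [e1]
        exact mul_mem hua hka
      have h3 : a = c := Sylow.ext (c.is_maximal' a.isPGroup' hle)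
      exact ⟨Z0, hZ0, h3 ▸ hc⟩
  gate := by
    rintro _ ⟨T, y, hT, rfl⟩ a
    obtain ⟨J, x, hgx, hax⟩ := exists_rep S hth hp2 a
    obtain ⟨Z0, hZ0, htr, _⟩ := gate_geo S hth hp2 hgx hT
    obtain ⟨c, hc⟩ := rep_of_Gds S hth hp2 hZ0
    exact ⟨c, ⟨Z0, hZ0, hc⟩, gate_PS S hth hp2 hT hax hZ0 hc htr⟩
  desc := by
    intro a b hab
    obtain ⟨J, J', x, y, hgx, hgy, hax, hby, hpar, hφ, hn⟩ := Nat.sInf_mem (dset_nonempty S hth hp2 a b)
    have hne : Δ.δ x y ≠ 1 := by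
      intro h1
      apply hab
      rw [h1] at hpar
      have h2 : Δ.Res J' y = Δ.Res J x := by rw [← hpar.eq_of_one, Δ.eq_of_δ_eq_one h1]
      rw [h2] at hby
      exact hax.eq hby
    obtain ⟨T, J'', v, b', y1, h1, h2, h3, h4, h5, h6, h7, h8, h9, h10, h11⟩ :=
      exists_PD hgx hgy hpar hφ hne
    obtain ⟨c, hc⟩ := rep_exists S hth hp2 h7.gd
    have hlt : t.dd S a c < t.dd S a b := by
      have e1 : t.dd S a b = ℓ (Δ.δ x y) := hn.symm
      rw [e1]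
      refine lt_of_le_of_lt (Nat.sInf_le ⟨J, J'', x, y1, hgx, h7.gd, hax, hc, ?_, ?_, rfl⟩) ?_
      · rw [h1]; exact h6
      · rw [h1]; exact h5
      · rw [h1]; exact h3
    have hcb : c ≠ b := by
      intro h
      rw [h] at hlt
      exact lt_irrefl _ hlt
    obtain ⟨Z3, hZ3, hn1, hn2⟩ : ∃ Z ∈ t.Gds T y1, Z ≠ Δ.Res J'' y1 ∧ Z ≠ Δ.Res J' y := by
      by_contra hcon
      push Not at hcon
      have htc := h7.thin S h8 h11 h10 (fun Z hZ => or_iff_not_imp_left.2 (hcon Z hZ))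
      apply hcb
      refine Sylow.ext (Subgroup.ext fun u => ?_)
      have e1 : (u : G) ∈ t.P S (Δ.Res J' y) ↔ (u : G) ∈ t.P S (Δ.Res J'' y1) := by rw [htc.eq]
      have e2 := hc u
      have e3 := hby u
      have e4 : (u : G) ∈ t.P S (Δ.Res J' y) ↔ (u : G) ∈ S.UR (Δ.Res J' y) :=
        ⟨fun h => h.2, fun h => ⟨u.2, h⟩⟩
      have e5 : (u : G) ∈ t.P S (Δ.Res J'' y1) ↔ (u : G) ∈ S.UR (Δ.Res J'' y1) :=
        ⟨fun h => h.2, fun h => ⟨u.2, h⟩⟩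
      change u ∈ c ↔ u ∈ b
      rw [e2, e3, ← e4, ← e5, e1]
    have hJy1 : Δ.Res J'' y1 ∈ t.Gds T y1 := ⟨J'', y1, h7.ad.sub'', Δ.self_mem_Res _ _, h7.gd, rfl⟩
    have hT : t.TP T y1 := by
      refine ⟨⟨J'', J', b', h7⟩, ?_⟩
      intro Z1 _ Z2 _
      by_contra hcon
      push Not at hcon
      have k1 := hcon _ hJy1
      have k2 := hcon _ h9
      have k3 := hcon _ hZ3
      by_cases q1 : Δ.Res J'' y1 = Z1
      · by_cases q2 : Δ.Res J' y = Z2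
        · have q3 : Z3 ≠ Z1 := by rw [← q1]; exact hn1
          exact hn2 ((k3 q3).trans q2.symm)
        · have q3 : Δ.Res J' y = Z1 := by
            by_contra q; exact q2 (k2 q)
          exact h10 (q3.trans q1.symm)
      · have q2 := k1 q1
        by_cases q3 : Δ.Res J' y = Z1
        · by_cases q4 : Z3 = Z1
          · exact hn2 (q4.trans q3.symm)
          · exact hn1 ((k3 q4).trans q2.symm)
        · exact h10 ((k2 q3).trans q2.symm)
    refine ⟨t.PS S T y1, ⟨T, y1, hT, rfl⟩, ⟨_, h9, hby⟩, c, ⟨_, hJy1, hc⟩, ?_, hcb, hlt⟩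
    refine gate_PS S hth hp2 hT hax hJy1 hc ?_
    intro Z1 hZ1 Z2 hZ2 hm1 hm2
    have hθ : ∀ Z ∈ t.Gds T y1, t.θ '' Z = Z := by
      rintro _ ⟨J, z, hJ, hz, hgd, rfl⟩
      exact image_Gd hgd
    exact trans_SS S hth hp2 hgx h1 h6 h4 h7.ad h7.θ_mem
      (h7.mem_SS hZ1 hm1) (h7.mem_SS hZ2 hm2) (hθ _ hZ1) (hθ _ hZ2)

end Tw

end Cfsg.Agent.FixBN
end
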