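import Mathlib
import Cfsg.Agent.FixBN.GoodOne
set_option linter.all false

/-!
# The rank one group `L₂(F)`: fixed point free involutions

`goodFam_lineFam`: for `F` a finite field of odd characteristic the centraliser of a fixed point free
involution in the group of all permutations of the projective line permuting the root groups is
solvable.
-/

set_option autoImplicit false

namespace Cfsg.Agent.FixBN.RankOneL2

open scoped commutatorElement

variable {F : Type*} [Field F]

/-! ### points of the projective line -/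

open Classical in
/-- The point of a nonzero vector. -/
noncomputable def pt (v : F × F) : Option F := if v.2 = 0 then none else some (v.1 / v.2)

theorem pt_zero (x : F) : pt (x, (0 : F)) = none := if_pos rfl

theorem pt_ne (x : F) {y : F} (hy : y ≠ 0) : pt (x, y) = some (x / y) := if_neg hy

theorem pt_surj (y : Option F) : ∃ v : F × F, v ≠ 0 ∧ pt v = y := by
  rcases y with _ | t
  · exact ⟨(1, 0), by simp, pt_zero 1⟩
  · exact ⟨(t, 1), by simp, by rw [pt_ne t one_ne_zero, div_one]⟩

theorem pt_smul {a : F} (ha : a ≠ 0) (v : F × F) : pt (a • v) = pt v := by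
  obtain ⟨x, y⟩ := v
  by_cases hy : y = 0
  · subst hy
    have : a • ((x, 0) : F × F) = (a * x, 0) := by simp
    rw [this, pt_zero, pt_zero]
  · have : a • ((x, y) : F × F) = (a * x, a * y) := by simp
    rw [this, pt_ne _ hy, pt_ne _ (mul_ne_zero ha hy), mul_div_mul_left _ _ ha]

theorem exists_of_pt_eq {v w : F × F} (hv : v ≠ 0) (hw : w ≠ 0) (h : pt v = pt w) :
    ∃ a : F, w = a • v := by
  obtain ⟨x, y⟩ := v
  obtain ⟨z, u⟩ := w
  by_cases hy : y = 0
  · subst hy
    rw [pt_zero] at h
    have hu : u = 0 := by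
      by_contra hu
      rw [pt_ne _ hu] at h
      exact Option.some_ne_none _ h.symm
    subst hu
    have hx : x ≠ 0 := by
      rintro rfl
      exact hv rfl
    refine ⟨z / x, ?_⟩
    simp [div_mul_cancel₀ _ hx]
  · rw [pt_ne _ hy] at h
    have hu : u ≠ 0 := by
      rintro rfl
      rw [pt_zero] at h
      exact Option.some_ne_none _ h
    rw [pt_ne _ hu] at h
    have h1 : x / y = z / u := Option.some_injective _ h
    refine ⟨u / y, ?_⟩
    have h2 : z = u / y * x := by
      field_simp at h1 ⊢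
      linear_combination -h1
    have h3 : u = u / y * y := by field_simp
    simp only [Prod.smul_mk, smul_eq_mul]
    rw [← h2, ← h3]

/-! ### semilinear lifts -/

/-- `T` is a `φ`-semilinear lift of the permutation `c` of the projective line. -/
structure Lift (c : Equiv.Perm (Option F)) (φ : F ≃+* F) (T : (F × F) ≃+ (F × F)) : Prop where
  semi : ∀ (a : F) (v : F × F), T (a • v) = φ a • T v
  act : ∀ v : F × F, v ≠ 0 → c (pt v) = pt (T v)

theorem Lift.one : Lift (1 : Equiv.Perm (Option F)) (RingEquiv.refl F) (AddEquiv.refl (F × F)) :=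
  ⟨fun _ _ => rfl, fun _ _ => rfl⟩

theorem map_ne_zero' (T : (F × F) ≃+ (F × F)) {v : F × F} (hv : v ≠ 0) : T v ≠ 0 := by
  rwa [Ne, EmbeddingLike.map_eq_zero_iff]

theorem Lift.mul {c d : Equiv.Perm (Option F)} {φ ψ : F ≃+* F} {T S : (F × F) ≃+ (F × F)}
    (hc : Lift c φ T) (hd : Lift d ψ S) : Lift (c * d) (ψ.trans φ) (S.trans T) := by
  refine ⟨fun a v => ?_, fun v hv => ?_⟩
  · change T (S (a • v)) = φ (ψ a) • T (S v)
    rw [hd.semi, hc.semi]
  · change c (d (pt v)) = pt (T (S v))
    rw [hd.act v hv, hc.act _ (map_ne_zero' S hv)]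

theorem Lift.inv {c : Equiv.Perm (Option F)} {φ : F ≃+* F} {T : (F × F) ≃+ (F × F)}
    (hc : Lift c φ T) : Lift c⁻¹ φ.symm T.symm := by
  refine ⟨fun a v => ?_, fun v hv => ?_⟩
  · apply T.injective
    rw [hc.semi, T.apply_symm_apply, T.apply_symm_apply, φ.apply_symm_apply]
  · rw [Equiv.Perm.inv_eq_iff_eq, hc.act _ (map_ne_zero' T.symm hv), T.apply_symm_apply]

/-- A lift of the identity is a scalar. -/
theorem Lift.scalar {φ : F ≃+* F} {T : (F × F) ≃+ (F × F)} (h : Lift 1 φ T) :
    (∃ a : F, a ≠ 0 ∧ ∀ v, T v = a • v) ∧ φ = RingEquiv.refl F := by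
  have h0 : ∀ v : F × F, v ≠ 0 → ∃ a : F, T v = a • v := by
    intro v hv
    exact exists_of_pt_eq hv (map_ne_zero' T hv) (h.act v hv)
  obtain ⟨a, ha⟩ := h0 (1, 0) (by simp)
  obtain ⟨b, hb⟩ := h0 (0, 1) (by simp)
  have hT : ∀ x y : F, T (x, y) = (φ x * a, φ y * b) := by
    intro x y
    have h1 : ((x, y) : F × F) = x • ((1, 0) : F × F) + y • ((0, 1) : F × F) := by simp
    rw [h1, map_add, h.semi, h.semi, ha, hb]
    simp
  have hab : ∀ x y : F, φ x * a * y = φ y * b * x := by
    intro x y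
    by_cases hxy : ((x, y) : F × F) = 0
    · rw [Prod.mk_eq_zero] at hxy
      rw [hxy.1, hxy.2]
      simp
    · obtain ⟨c, hc⟩ := h0 (x, y) hxy
      rw [hT, Prod.smul_mk, Prod.mk.injEq, smul_eq_mul, smul_eq_mul] at hc
      rw [hc.1, hc.2]
      ring
  have hab1 : a = b := by
    have := hab 1 1
    simpa using this
  subst hab1
  have ha0 : a ≠ 0 := by
    rintro rfl
    exact map_ne_zero' T (v := ((1, 0) : F × F)) (by simp) (by rw [ha, zero_smul])
  have hφ : ∀ x, φ x = x := by
    intro x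
    have := hab x 1
    rw [map_one, mul_one, one_mul, mul_comm a x] at this
    exact mul_right_cancel₀ ha0 this
  refine ⟨⟨a, ha0, ?_⟩, RingEquiv.ext hφ⟩
  rintro ⟨x, y⟩
  rw [hT, hφ, hφ, Prod.smul_mk, smul_eq_mul, smul_eq_mul, mul_comm x, mul_comm y]

/-! ### the generators -/

/-- the lift of `t ↦ t + a` -/
def trLift (a : F) : (F × F) ≃+ (F × F) where
  toFun v := (v.1 + a * v.2, v.2)
  invFun v := (v.1 - a * v.2, v.2)
  left_inv v := by simp
  right_inv v := by simp
  map_add' v w := by
    ext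
    · simp; ring
    · simp

/-- the lift of `t ↦ -1/t` -/
def niLift : (F × F) ≃+ (F × F) where
  toFun v := (-v.2, v.1)
  invFun v := (v.2, -v.1)
  left_inv v := by simp
  right_inv v := by simp
  map_add' v w := by
    ext
    · simp; ring
    · simp

theorem lift_tr (a : F) : Lift (tr a) (RingEquiv.refl F) (trLift a) := by
  refine ⟨?_, ?_⟩
  · rintro c ⟨x, y⟩
    change (c * x + a * (c * y), c * y) = c • (x + a * y, y)
    simp only [Prod.smul_mk, smul_eq_mul]
    congr 1
    ring
  · rintro ⟨x, y⟩ hv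
    change tr a (pt (x, y)) = pt (x + a * y, y)
    by_cases hy : y = 0
    · subst hy
      rw [pt_zero, pt_zero, tr_none]
    · rw [pt_ne _ hy, pt_ne _ hy, tr_some]
      congr 1
      field_simp

theorem lift_ni : Lift (ni : Equiv.Perm (Option F)) (RingEquiv.refl F) niLift := by
  refine ⟨?_, ?_⟩
  · rintro c ⟨x, y⟩
    change (-(c * y), c * x) = c • (-y, x)
    simp only [Prod.smul_mk, smul_eq_mul]
    congr 1
    ring
  · rintro ⟨x, y⟩ hv
    change ni (pt (x, y)) = pt (-y, x)
    by_cases hy : y = 0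
    · subst hy
      have hx : x ≠ 0 := by
        rintro rfl
        exact hv rfl
      rw [pt_zero, ni_none, pt_ne _ hx]
      simp
    · rw [pt_ne _ hy]
      by_cases hx : x = 0
      · subst hx
        rw [zero_div, ni_zero, pt_zero]
      · rw [ni_some (div_ne_zero hx hy), pt_ne _ hx]
        congr 1
        field_simp

theorem exists_lift_psl2 {g : Equiv.Perm (Option F)} (hg : g ∈ psl2 F) :
    ∃ φ T, Lift g φ T := by
  unfold psl2 at hg
  induction hg using Subgroup.closure_induction with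
  | mem x hx =>
    rcases hx with ⟨a, rfl⟩ | rfl
    · exact ⟨_, _, lift_tr a⟩
    · exact ⟨_, _, lift_ni⟩
  | one => exact ⟨_, _, Lift.one⟩
  | mul x y _ _ hx hy =>
    obtain ⟨_, _, hx⟩ := hx
    obtain ⟨_, _, hy⟩ := hy
    exact ⟨_, _, hx.mul hy⟩
  | inv x _ hx =>
    obtain ⟨_, _, hx⟩ := hx
    exact ⟨_, _, hx.inv⟩

/-! ### permutations of the root groups are semilinear -/

theorem mem_lineFam_zero {g : Equiv.Perm (Option F)} :
    g ∈ lineFam F (some 0 : Option F) ↔ ∃ a : F, g = ni * tr a * ni := by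
  rw [mem_lineFam_some, tr_zero, one_mul, inv_ni]

theorem hua {A B L : F} (h6 : A + B ≠ 0) (h7 : B ≠ 0) (h8 : B + L ≠ 0)
    (h3 : (A + B)⁻¹ = B⁻¹ - (B + L)⁻¹) : L * A = B * B := by
  have h4 : B * (B + L) = (A + B) * L := by
    have h5 : B⁻¹ - (B + L)⁻¹ = L / (B * (B + L)) := by
      field_simp
      ring
    rw [h5, inv_eq_one_div, div_eq_div_iff h6 (mul_ne_zero h7 h8)] at h3
    linear_combination h3
  linear_combination -h4

theorem exists_lift_fix (h2 : (2 : F) ≠ 0) {c : Equiv.Perm (Option F)}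
    (hc : c ∈ famStab (lineFam F)) (h0 : c none = none) (h1 : c (some 0) = some 0) :
    ∃ φ T, Lift c φ T := by
  have hf : ∀ a : F, ∃ b : F, c * tr a * c⁻¹ = tr b := by
    intro a
    have := (hc none (tr a)).mp (tr_mem_lineFam a)
    rw [h0, lineFam_none, mem_trGroup] at this
    obtain ⟨b, hb⟩ := this
    exact ⟨b, hb.symm⟩
  choose f hf using hf
  have hfc : ∀ a, c * tr a = tr (f a) * c := fun a => mul_inv_eq_iff_eq_mul.mp (hf a)
  have hcf : ∀ a : F, c (some a) = some (f a) := by
    intro a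
    have h3 := congrArg (fun e : Equiv.Perm (Option F) => e (some 0)) (hfc a)
    change c (tr a (some 0)) = tr (f a) (c (some 0)) at h3
    rw [h1, tr_some, tr_some, zero_add, zero_add] at h3
    exact h3
  have hf0 : f 0 = 0 := by
    have := hcf 0
    rw [h1] at this
    exact (Option.some_injective _ this).symm
  have hfinj : Function.Injective f := by
    intro a b hab
    have : c (some a) = c (some b) := by rw [hcf, hcf, hab]
    exact Option.some_injective _ (c.injective this)
  have hfne : ∀ {a : F}, a ≠ 0 → f a ≠ 0 := by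
    intro a ha h
    exact ha (hfinj (h.trans hf0.symm))
  have hfadd : ∀ a b, f (a + b) = f a + f b := by
    intro a b
    have h3 : c (tr a (some b)) = tr (f a) (c (some b)) :=
      congrArg (fun e : Equiv.Perm (Option F) => e (some b)) (hfc a)
    rw [tr_some, hcf, hcf, tr_some] at h3
    have h4 := Option.some_injective _ h3
    rw [add_comm a b, h4, add_comm]
  -- the opposite root group
  have hg : ∀ a : F, ∃ b : F, c * (ni * tr a * ni) * c⁻¹ = ni * tr b * ni := by
    intro a
    have := (hc (some 0) (ni * tr a * ni)).mp (mem_lineFam_zero.mpr ⟨a, rfl⟩)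
    rw [h1, mem_lineFam_zero] at this
    exact this
  choose g hg using hg
  have hgc : ∀ a, c * (ni * tr a * ni) = ni * tr (g a) * ni * c := fun a =>
    mul_inv_eq_iff_eq_mul.mp (hg a)
  have hgc' : ∀ (a : F) (y : Option F), c (ni (tr a (ni y))) = ni (tr (g a) (ni (c y))) :=
    fun a y => congrArg (fun e : Equiv.Perm (Option F) => e y) (hgc a)
  -- `g a = 1 / f (1 / a)`
  have hga : ∀ {a : F}, a ≠ 0 → g a = (f a⁻¹)⁻¹ := by
    intro a ha
    have h3 := hgc' a (some a⁻¹)
    rw [ni_some (inv_ne_zero ha), inv_inv, tr_some, neg_add_cancel, ni_zero, h0, hcf,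
      ni_some (hfne (inv_ne_zero ha)), tr_some] at h3
    by_contra hne
    have h4 : -(f a⁻¹)⁻¹ + g a ≠ 0 := by
      intro h5
      apply hne
      linear_combination h5
    rw [ni_some h4] at h3
    exact Option.some_ne_none _ h3.symm
  have hgsub : ∀ {s a : F}, s ≠ 0 → s ≠ a → a ≠ 0 → g (s - a) = g s - g a := by
    intro s a hs hsa ha
    have hsa' : s - a ≠ 0 := sub_ne_zero.mpr hsa
    have h3 := hgc' a (some s⁻¹)
    have h5 : -s + a ≠ 0 := by
      intro h
      apply hsa
      linear_combination -h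
    rw [ni_some (inv_ne_zero hs), inv_inv, tr_some, ni_some h5, hcf, hcf,
      ni_some (hfne (inv_ne_zero hs)), tr_some] at h3
    have h6 : -(-s + a)⁻¹ = (s - a)⁻¹ := by
      rw [← inv_neg]
      congr 1
      ring
    rw [h6] at h3
    have h7 : -(f s⁻¹)⁻¹ + g a ≠ 0 := by
      intro h
      rw [h, ni_zero] at h3
      exact Option.some_ne_none _ h3
    rw [ni_some h7] at h3
    have h8 := Option.some_injective _ h3
    rw [hga hsa', h8, hga hs, inv_neg, inv_inv]
    ring
  -- `λ f(x²) = f(x)²`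
  have hl : f 1 ≠ 0 := hfne one_ne_zero
  have hsq : ∀ x : F, f 1 * f (x * x) = f x * f x := by
    intro x
    by_cases hx : x = 0
    · subst hx
      rw [mul_zero, hf0, mul_zero, mul_zero]
    by_cases hx1 : x + 1 = 0
    · have hx2 : x = -1 := by linear_combination hx1
      have h3 := hfadd 1 (-1)
      rw [add_neg_cancel, hf0] at h3
      have h4 : f (-1) = -f 1 := by linear_combination -h3
      rw [hx2, h4, neg_mul_neg, neg_mul_neg, one_mul]
    have hne : x⁻¹ ≠ (x + 1)⁻¹ := by
      intro h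
      have := inv_injective h
      have h3 : (1 : F) = 0 := by linear_combination -this
      exact one_ne_zero h3
    have h3 := hgsub (inv_ne_zero hx) hne (inv_ne_zero hx1)
    have h4 : x⁻¹ - (x + 1)⁻¹ = (x * x + x)⁻¹ := by
      have h5 : x * x + x ≠ 0 := by
        have : x * x + x = x * (x + 1) := by ring
        rw [this]
        exact mul_ne_zero hx hx1
      field_simp
      ring
    have h5 : x * x + x ≠ 0 := by
      have : x * x + x = x * (x + 1) := by ring
      rw [this]
      exact mul_ne_zero hx hx1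
    rw [h4, hga (inv_ne_zero h5), hga (inv_ne_zero hx), hga (inv_ne_zero hx1), inv_inv, inv_inv,
      inv_inv, hfadd, hfadd x 1] at h3
    have h6 : f (x * x) + f x ≠ 0 := by
      rw [← hfadd]
      exact hfne h5
    have h7 : f x ≠ 0 := hfne hx
    have h8 : f x + f 1 ≠ 0 := by
      rw [← hfadd]
      exact hfne hx1
    exact hua h6 h7 h8 h3
  have hmul : ∀ x y : F, f 1 * f (x * y) = f x * f y := by
    intro x y
    have h3 := hsq (x + y)
    have h4 : (x + y) * (x + y) = x * x + (x * y + x * y) + y * y := by ring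
    rw [h4, hfadd, hfadd, hfadd (x * y), hfadd x y] at h3
    have h5 := hsq x
    have h6 := hsq y
    have h7 : 2 * (f 1 * f (x * y)) = 2 * (f x * f y) := by linear_combination h3 - h5 - h6
    exact mul_left_cancel₀ h2 h7
  have hsurj : Function.Surjective f := by
    intro b
    obtain ⟨y, hy⟩ := c.surjective (some b)
    rcases y with _ | a
    · rw [h0] at hy
      exact absurd hy.symm (Option.some_ne_none _)
    · rw [hcf] at hy
      exact ⟨a, Option.some_injective _ hy⟩
  -- the field automorphism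
  let φ : F ≃+* F := RingEquiv.ofBijective
    ({ toFun := fun x => f x / f 1
       map_one' := div_self hl
       map_mul' := fun x y => by
        field_simp
        linear_combination hmul x y
       map_zero' := by
        change f 0 / f 1 = 0
        rw [hf0, zero_div]
       map_add' := fun x y => by
        change f (x + y) / f 1 = f x / f 1 + f y / f 1
        rw [hfadd, add_div] } : F →+* F)
    ⟨by
      intro x y hxy
      have h3 : f x / f 1 = f y / f 1 := hxy
      exact hfinj ((div_left_inj' hl).mp h3), by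
      intro y
      obtain ⟨x, hx⟩ := hsurj (y * f 1)
      exact ⟨x, by change f x / f 1 = y; rw [hx, mul_div_cancel_right₀ _ hl]⟩⟩
  have hφ : ∀ x, φ x = f x / f 1 := fun x => rfl
  let T : (F × F) ≃+ (F × F) :=
    { toFun := fun v => (f 1 * φ v.1, φ v.2)
      invFun := fun v => (φ.symm ((f 1)⁻¹ * v.1), φ.symm v.2)
      left_inv := fun v => by
        ext
        · simp [inv_mul_cancel_left₀ hl]
        · simp
      right_inv := fun v => by
        ext
        · simp [mul_inv_cancel_left₀ hl]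
        · simp
      map_add' := fun v w => by
        ext
        · simp; ring
        · simp }
  have hT : ∀ x y : F, T (x, y) = (f 1 * φ x, φ y) := fun x y => rfl
  refine ⟨φ, T, ?_, ?_⟩
  · rintro a ⟨x, y⟩
    rw [Prod.smul_mk, hT, hT, smul_eq_mul, smul_eq_mul, map_mul, map_mul, Prod.smul_mk, smul_eq_mul,
      smul_eq_mul]
    congr 1
    ring
  · rintro ⟨x, y⟩ hv
    rw [hT]
    by_cases hy : y = 0
    · subst hy
      rw [pt_zero, map_zero, pt_zero, h0]
    · have hy' : φ y ≠ 0 := by
        intro h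
        exact hy ((EmbeddingLike.map_eq_zero_iff (f := φ)).mp h)
      rw [pt_ne _ hy, pt_ne _ hy', hcf]
      congr 1
      have h3 := hmul (x / y) y
      rw [div_mul_cancel₀ _ hy] at h3
      rw [hφ, hφ] at *
      have hy2 : f y ≠ 0 := hfne hy
      field_simp
      linear_combination -h3

theorem exists_lift (h2 : (2 : F) ≠ 0) {c : Equiv.Perm (Option F)}
    (hc : c ∈ famStab (lineFam F)) : ∃ φ T, Lift c φ T := by
  have h1 : (toPt (c none))⁻¹ (c (some 0)) ≠ none := by
    intro h
    have h3 : (toPt (c none)) ((toPt (c none))⁻¹ (c (some 0))) = toPt (c none) none :=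
      congrArg (toPt (c none)) h
    rw [toPt_apply] at h3
    have h4 : (toPt (c none)) ((toPt (c none))⁻¹ (c (some 0))) = c (some 0) :=
      (toPt (c none)).apply_symm_apply _
    rw [h4] at h3
    exact Option.some_ne_none _ (c.injective h3)
  obtain ⟨s, hs⟩ := Option.ne_none_iff_exists'.mp h1
  set g : Equiv.Perm (Option F) := toPt (c none) * tr s with hg
  have hgm : g ∈ psl2 F := mul_mem (toPt_mem _) (tr_mem s)
  have hgf : g ∈ famStab (lineFam F) := psl2_le_famStab hgm
  have hg0 : g none = c none := by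
    change toPt (c none) (tr s none) = c none
    rw [tr_none, toPt_apply]
  have hg1 : g (some 0) = c (some 0) := by
    change toPt (c none) (tr s (some 0)) = c (some 0)
    rw [tr_some, zero_add, ← hs]
    exact (toPt (c none)).apply_symm_apply _
  obtain ⟨φ, T, h⟩ := exists_lift_fix h2 (c := g⁻¹ * c) (mul_mem (inv_mem hgf) hc)
    (by
      change g⁻¹ (c none) = none
      rw [← hg0]
      exact g.symm_apply_apply _)
    (by
      change g⁻¹ (c (some 0)) = some 0
      rw [← hg1]
      exact g.symm_apply_apply _)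
  obtain ⟨ψ, S, h'⟩ := exists_lift_psl2 hgm
  have := h'.mul h
  rw [mul_inv_cancel_left] at this
  exact ⟨_, _, this⟩

/-! ### finite fields -/

/-- Automorphisms of a finite field commute. -/
theorem aut_comm [Finite F] (φ ψ : F ≃+* F) (x : F) : φ (ψ x) = ψ (φ x) := by
  by_cases hx : x = 0
  · simp [hx]
  obtain ⟨g, hg⟩ := IsCyclic.exists_generator (α := Fˣ)
  have key : ∀ θ : F ≃+* F, ∃ i : ℤ, ∀ y : Fˣ, θ y = ((y ^ i : Fˣ) : F) := by
    intro θ
    obtain ⟨i, hi⟩ := hg (Units.map (θ : F →* F) g)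
    refine ⟨i, fun y => ?_⟩
    obtain ⟨k, hk⟩ := hg y
    have h1 : Units.map (θ : F →* F) y = y ^ i := by
      have hi' : g ^ i = Units.map (θ : F →* F) g := hi
      have hk' : g ^ k = y := hk
      rw [← hk', map_zpow, ← hi', ← zpow_mul, ← zpow_mul, mul_comm]
    exact congrArg Units.val h1
  obtain ⟨i, hi⟩ := key φ
  obtain ⟨j, hj⟩ := key ψ
  have h1 := hi (Units.mk0 x hx)
  have h2 := hj (Units.mk0 x hx)
  rw [Units.val_mk0] at h1 h2
  rw [h2, hi, h1, hj, ← zpow_mul, ← zpow_mul, mul_comm]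

section FieldFacts

variable (σ : F ≃+* F) (hσ : ∀ x, σ (σ x) = x)

include hσ in
theorem hilbert90 (hne : ∃ x, σ x ≠ x) {x : F} (hx : x * σ x = 1) : ∃ y, y ≠ 0 ∧ x * σ y = y := by
  have hex : ∃ c, c + x * σ c ≠ 0 := by
    by_contra hcon
    push Not at hcon
    obtain ⟨z, hz⟩ := hne
    have h1 := hcon 1
    rw [map_one] at h1
    have h2 := hcon z
    apply hz
    linear_combination -h2 + σ z * h1
  obtain ⟨c, hc⟩ := hex
  refine ⟨c + x * σ c, hc, ?_⟩
  rw [map_add, map_mul, hσ]
  linear_combination c * hx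

include hσ in
theorem norm_surj [Finite F] (hne : ∃ x, σ x ≠ x) {r : F} (hr0 : r ≠ 0) (hr : σ r = r) :
    ∃ x, x * σ x = r := by
  let s : Fˣ →* Fˣ := Units.map (σ : F →* F)
  have hs : ∀ x : Fˣ, ((s x : Fˣ) : F) = σ x := fun x => rfl
  have hss : ∀ x : Fˣ, s (s x) = x := fun x => Units.ext (hσ x)
  let N : Fˣ →* Fˣ := MonoidHom.id Fˣ * s
  let D : Fˣ →* Fˣ := MonoidHom.id Fˣ / s
  have hN : ∀ x, N x = x * s x := fun x => rfl
  have hD : ∀ x, D x = x / s x := fun x => rfl
  have h1 : N.ker = D.range := by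
    apply le_antisymm
    · intro x hx
      rw [MonoidHom.mem_ker, hN] at hx
      have hx' : (x : F) * σ x = 1 := congrArg Units.val hx
      obtain ⟨y, hy0, hy⟩ := hilbert90 σ hσ hne hx'
      refine ⟨Units.mk0 y hy0, ?_⟩
      rw [hD, div_eq_iff_eq_mul]
      apply Units.ext
      rw [Units.val_mul, hs, Units.val_mk0]
      exact hy.symm
    · rintro _ ⟨y, rfl⟩
      rw [MonoidHom.mem_ker, hN, hD, map_div, hss, div_mul_div_comm, mul_comm, div_self']
  have h2 : N.range ≤ D.ker := by
    rintro _ ⟨y, rfl⟩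
    rw [MonoidHom.mem_ker, hN, hD, map_mul, hss, mul_comm (s y) y, div_self']
  have c1 := Subgroup.card_mul_index N.ker
  have c2 := Subgroup.card_mul_index D.ker
  rw [Subgroup.index_ker] at c1 c2
  rw [h1] at c1
  have hpos : 0 < Nat.card D.range := Nat.card_pos
  have h3 : Nat.card D.ker = Nat.card N.range := by
    have : Nat.card D.range * Nat.card D.ker = Nat.card D.range * Nat.card N.range := by
      rw [c1, mul_comm, c2]
    exact Nat.eq_of_mul_eq_mul_left hpos this
  have h4 : N.range = D.ker := Subgroup.eq_of_le_of_card_ge h2 h3.le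
  have h5 : Units.mk0 r hr0 ∈ D.ker := by
    rw [MonoidHom.mem_ker, hD, div_eq_one]
    exact Units.ext hr.symm
  rw [← h4] at h5
  obtain ⟨x, hx⟩ := h5
  exact ⟨x, congrArg Units.val hx⟩

end FieldFacts

/-! ### a fixed point free involution is linear -/

theorem refl_of_free [Finite F] {th : Equiv.Perm (Option F)} (hsq : th * th = 1)
    (hfree : ∀ w, th w ≠ w) {φ : F ≃+* F} {T : (F × F) ≃+ (F × F)} (hT : Lift th φ T) :
    φ = RingEquiv.refl F := by
  by_contra hne
  have hne' : ∃ x, φ x ≠ x := by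
    by_contra hcon
    push Not at hcon
    exact hne (RingEquiv.ext hcon)
  have h1 := hT.mul hT
  rw [hsq] at h1
  obtain ⟨⟨l, hl0, hl⟩, hφφ⟩ := h1.scalar
  have hl' : ∀ v, T (T v) = l • v := hl
  have hφ2 : ∀ x, φ (φ x) = x := fun x => congrArg (fun e : F ≃+* F => e x) hφφ
  have hv0 : ((1, 0) : F × F) ≠ 0 := by simp
  have hlφ : φ l = l := by
    have h2 : T (T (T (1, 0))) = φ l • T (1, 0) := by rw [hl' (1, 0), hT.semi]
    rw [hl' (T (1, 0))] at h2
    exact (smul_left_injective F (map_ne_zero' T hv0) h2).symm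
  obtain ⟨x, hx⟩ := norm_surj φ hφ2 hne' hl0 hlφ
  have hx0 : x ≠ 0 := by
    rintro rfl
    rw [zero_mul] at hx
    exact hl0 hx.symm
  have hφx0 : φ x ≠ 0 := fun h => hx0 ((EmbeddingLike.map_eq_zero_iff (f := φ)).mp h)
  -- `S v = x⁻¹ T v`
  have hS : ∀ v : F × F, x⁻¹ • T (x⁻¹ • T v) = v := by
    intro v
    rw [hT.semi, hl', smul_smul, smul_smul, map_inv₀, ← hx]
    have : x⁻¹ * (φ x)⁻¹ * (x * φ x) = 1 := by field_simp
    rw [this, one_smul]
  have hex : ∃ v : F × F, v + x⁻¹ • T v ≠ 0 := by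
    by_contra hcon
    push Not at hcon
    obtain ⟨a, ha⟩ := hne'
    have h2 := hcon (1, 0)
    have h3 := hcon (a • (1, 0))
    rw [hT.semi, smul_smul, mul_comm x⁻¹, ← smul_smul] at h3
    have h4 : x⁻¹ • T (1, 0) = -(1, 0) := by
      rw [← neg_eq_iff_add_eq_zero.mpr h2]
    rw [h4, smul_neg, ← sub_eq_add_neg, ← sub_smul] at h3
    have h5 : a - φ a = 0 := by
      rcases smul_eq_zero.mp h3 with h | h
      · exact h
      · exact absurd h hv0
    exact ha (sub_eq_zero.mp h5).symm
  obtain ⟨v, hv⟩ := hex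
  have h2 : T (v + x⁻¹ • T v) = x • (v + x⁻¹ • T v) := by
    have h3 : x⁻¹ • T (v + x⁻¹ • T v) = v + x⁻¹ • T v := by
      rw [map_add, smul_add, hS, add_comm]
    rw [← h3, smul_smul, mul_inv_cancel₀ hx0, one_smul, h3]
  apply hfree (pt (v + x⁻¹ • T v))
  rw [hT.act _ hv, h2, pt_smul hx0]

theorem exists_comb {th : Equiv.Perm (Option F)} (hfree : ∀ w, th w ≠ w) {φ : F ≃+* F}
    {T : (F × F) ≃+ (F × F)} (hT : Lift th φ T) (w : F × F) :
    ∃ a b : F, w = a • ((1, 0) : F × F) + b • T (1, 0) := by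
  have h1 := hfree (pt (1, 0))
  rw [hT.act _ (by simp), pt_zero] at h1
  obtain ⟨x, y⟩ := w
  rcases hab : T (1, 0) with ⟨a, b⟩
  rw [hab] at h1
  have hb : b ≠ 0 := by
    rintro rfl
    exact h1 (pt_zero a)
  refine ⟨x - y / b * a, y / b, ?_⟩
  ext
  · simp
  · simp [hb]

/-- **(T5)** fixed point free involutions of the projective line have solvable centralisers. -/
theorem goodFam_lineFam [Finite F] (h2 : (2 : F) ≠ 0) : GoodFam (lineFam F) := by
  intro th hth hsq hfree
  obtain ⟨φ, T, hT⟩ := exists_lift h2 hth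
  obtain rfl := refl_of_free hsq hfree hT
  have hTlin : ∀ (a : F) v, T (a • v) = a • T v := hT.semi
  set G : Subgroup (Equiv.Perm (Option F)) :=
    famStab (lineFam F) ⊓ Subgroup.centralizer ({th} : Set (Equiv.Perm (Option F))) with hG
  have hcomm : ∀ c : ↥G, (c : Equiv.Perm (Option F)) * th = th * c := fun c =>
    Subgroup.mem_centralizer_singleton_iff.mp c.2.2
  -- linear elements
  let G1 : Subgroup ↥G :=
    { carrier := {c | ∃ S, Lift (c : Equiv.Perm (Option F)) (RingEquiv.refl F) S}
      one_mem' := ⟨_, Lift.one⟩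
      mul_mem' := by
        rintro _ _ ⟨_, h1⟩ ⟨_, h2⟩
        exact ⟨_, h1.mul h2⟩
      inv_mem' := by
        rintro _ ⟨_, h1⟩
        exact ⟨_, h1.inv⟩ }
  let G2 : Subgroup ↥G :=
    { carrier := {c | ∃ S, Lift (c : Equiv.Perm (Option F)) (RingEquiv.refl F) S ∧
        ∀ v, S (T v) = T (S v)}
      one_mem' := ⟨_, Lift.one, fun _ => rfl⟩
      mul_mem' := by
        rintro _ _ ⟨S, h1, h1'⟩ ⟨R, h2, h2'⟩
        refine ⟨_, h1.mul h2, fun v => ?_⟩
        change S (R (T v)) = T (S (R v))
        rw [h2', h1']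
      inv_mem' := by
        rintro _ ⟨S, h1, h1'⟩
        refine ⟨_, h1.inv, fun v => ?_⟩
        apply S.injective
        rw [S.apply_symm_apply, h1', S.apply_symm_apply] }
  have hD1 : derivedSeries ↥G 1 ≤ G1 := by
    rw [derivedSeries_succ, Subgroup.commutator_le]
    intro c _ d _
    obtain ⟨φc, S, hS⟩ := exists_lift h2 c.2.1
    obtain ⟨φd, R, hR⟩ := exists_lift h2 d.2.1
    have h3 := ((hS.mul hR).mul hS.inv).mul hR.inv
    have h4 : (φd.symm.trans (φc.symm.trans (φd.trans φc))) = RingEquiv.refl F := by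
      ext x
      change φc (φd (φc.symm (φd.symm x))) = x
      rw [aut_comm φc φd, φc.apply_symm_apply, φd.apply_symm_apply]
    rw [h4] at h3
    exact ⟨_, h3⟩
  -- the multiplier
  have hmu : ∀ (c : ↥G) (S : (F × F) ≃+ (F × F)),
      Lift (c : Equiv.Perm (Option F)) (RingEquiv.refl F) S →
      ∃ m : F, m ≠ 0 ∧ ∀ v, S (T v) = m • T (S v) := by
    intro c S hS
    have h3 := ((hS.mul hT).mul hS.inv).mul hT.inv
    have h4 : (c : Equiv.Perm (Option F)) * th * (c : Equiv.Perm (Option F))⁻¹ * th⁻¹ = 1 := by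
      rw [hcomm c, mul_inv_cancel_right, mul_inv_cancel]
    rw [h4] at h3
    obtain ⟨⟨m, hm0, hm⟩, -⟩ := h3.scalar
    refine ⟨m, hm0, fun v => ?_⟩
    have h5 : S (T (S.symm (T.symm (T (S v))))) = m • T (S v) := hm (T (S v))
    rw [T.symm_apply_apply, S.symm_apply_apply] at h5
    exact h5
  have hD2 : derivedSeries ↥G 2 ≤ G2 := by
    rw [derivedSeries_succ, Subgroup.commutator_le]
    intro c hc d hd
    obtain ⟨S, hS⟩ := hD1 hc
    obtain ⟨R, hR⟩ := hD1 hd
    obtain ⟨m, hm0, hm⟩ := hmu c S hS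
    obtain ⟨n, hn0, hn⟩ := hmu d R hR
    have hSl : ∀ (a : F) v, S (a • v) = a • S v := hS.semi
    have hRl : ∀ (a : F) v, R (a • v) = a • R v := hR.semi
    have hm' : ∀ v, S.symm (T v) = m⁻¹ • T (S.symm v) := by
      intro v
      apply S.injective
      rw [S.apply_symm_apply, hSl, hm, S.apply_symm_apply, smul_smul, inv_mul_cancel₀ hm0, one_smul]
    have hn' : ∀ v, R.symm (T v) = n⁻¹ • T (R.symm v) := by
      intro v
      apply R.injective
      rw [R.apply_symm_apply, hRl, hn, R.apply_symm_apply, smul_smul, inv_mul_cancel₀ hn0, one_smul]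
    have hSs : ∀ (a : F) v, S.symm (a • v) = a • S.symm v := hS.inv.semi
    refine ⟨_, ((hS.mul hR).mul hS.inv).mul hR.inv, fun v => ?_⟩
    change S (R (S.symm (R.symm (T v)))) = T (S (R (S.symm (R.symm v))))
    rw [hn', hSs, hRl, hSl, hm', hRl, hSl, hn, hSl, hm, smul_smul, smul_smul, smul_smul]
    have : n⁻¹ * m⁻¹ * n * m = 1 := by field_simp
    rw [this, one_smul]
  have hD3 : derivedSeries ↥G 3 ≤ ⊥ := by
    rw [derivedSeries_succ, Subgroup.commutator_le]
    intro c hc d hd
    obtain ⟨S, hS, hST⟩ := hD2 hc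
    obtain ⟨R, hR, hRT⟩ := hD2 hd
    have hSl : ∀ (a : F) v, S (a • v) = a • S v := hS.semi
    have hRl : ∀ (a : F) v, R (a • v) = a • R v := hR.semi
    obtain ⟨a, b, hab⟩ := exists_comb hfree hT (S (1, 0))
    obtain ⟨a', b', hab'⟩ := exists_comb hfree hT (R (1, 0))
    have h0 : S (R (1, 0)) = R (S (1, 0)) := by
      have e1 : S (R (1, 0)) = a' • S (1, 0) + b' • T (S (1, 0)) := by
        conv_lhs => rw [hab']
        rw [map_add, hSl, hSl, hST]
      have e2 : R (S (1, 0)) = a • R (1, 0) + b • T (R (1, 0)) := by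
        conv_lhs => rw [hab]
        rw [map_add, hRl, hRl, hRT]
      rw [e1, e2, hab, hab']
      simp only [map_add, hTlin, smul_add, smul_smul]
      rw [mul_comm a' a, mul_comm a' b, mul_comm b' a, mul_comm b' b]
      abel
    have hSR : ∀ v, S (R v) = R (S v) := by
      intro v
      obtain ⟨x, y, rfl⟩ := exists_comb hfree hT v
      rw [map_add, map_add, map_add, map_add, hSl, hSl, hRl, hRl, hRl, hRl, hSl, hSl, h0, hRT, hST,
        hST, hRT, h0]
    rw [Subgroup.mem_bot, commutatorElement_eq_one_iff_mul_comm]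
    apply Subtype.ext
    apply Equiv.ext
    intro y
    obtain ⟨v, hv, rfl⟩ := pt_surj y
    change (c : Equiv.Perm (Option F)) ((d : Equiv.Perm (Option F)) (pt v)) =
      (d : Equiv.Perm (Option F)) ((c : Equiv.Perm (Option F)) (pt v))
    rw [hR.act v hv, hS.act v hv, hS.act _ (map_ne_zero' R hv), hR.act _ (map_ne_zero' S hv), hSR]
  exact ⟨3, le_bot_iff.mp hD3⟩

end Cfsg.Agent.FixBN.RankOneL2
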