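import Cfsg.Agent.FixBN.Split
import Cfsg.Agent.FixBN.Transport
import Cfsg.Agent.FixBN.TwESixSplit
import Cfsg.Agent.FixBN.ThreeD4Split
import Cfsg.Agent.LieRecognition.ReeSylowThree
import Cfsg.Agent.ChevalleyStructure.Ree.Data
import Cfsg.Prelude.Def_LieTypeChar
set_option linter.all false

/-!
# The split (B,N)-pair of ²G₂(q)
-/

set_option autoImplicit false

namespace Cfsg.Agent.FixBN.ReeSplit

open Cfsg.Agent.LieRecognition.ReeAbs Cfsg.Agent.LieRecognition.ReeSylowThree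
open Cfsg.Agent.Schreier.BNSch (Node)

section RankOne

open scoped Pointwise

variable {G : Type*} [Group G]

/-- A (B,N)-pair of rank one with its distinguished generator. -/
def rankOne (B N : Subgroup G) (n : G) (hn : n ∈ N) (hnn : n * n ∈ B)
    (hG : ∀ g : G, g ∈ B ∨ ∃ b ∈ B, ∃ b' ∈ B, g = b * n * b')
    (hN : ∀ g ∈ N, g ∈ B ∨ ∃ t ∈ B ⊓ N, g = t * n)
    (hc : ∀ t ∈ B ⊓ N, n * t * n⁻¹ ∈ B)
    (hne : ∃ b ∈ B, n * b * n ∉ B) : Cfsg.BNPair G where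
  B := B
  N := N
  S := {n}
  sup_eq_top := by
    rw [eq_top_iff]
    intro g _
    rcases hG g with h | ⟨b, hb, b', hb', rfl⟩
    · exact Subgroup.mem_sup_left h
    · exact mul_mem (mul_mem (Subgroup.mem_sup_left hb) (Subgroup.mem_sup_right hn)) (Subgroup.mem_sup_left hb')
  conj_mem := by
    intro m hm t ht
    rcases hN m hm with h | ⟨t', ht', rfl⟩
    · exact mul_mem (mul_mem h ht.1) (inv_mem h)
    · have : t' * n * t * (t' * n)⁻¹ = t' * (n * t * n⁻¹) * t'⁻¹ := by group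
      rw [this]
      exact mul_mem (mul_mem ht'.1 (hc t ht)) (inv_mem ht'.1)
  subset := by
    intro s hs
    rw [Set.mem_singleton_iff] at hs
    rw [hs]; exact hn
  sq_mem := by
    intro s hs
    rw [Set.mem_singleton_iff] at hs
    rw [hs]; exact hnn
  inj := by
    intro s hs s' hs' _
    rw [Set.mem_singleton_iff] at hs hs'
    rw [hs, hs']
  closure_sup := by
    apply le_antisymm
    · refine sup_le ((Subgroup.closure_le _).2 ?_) inf_le_right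
      intro s hs
      rw [Set.mem_singleton_iff] at hs
      rw [hs]; exact hn
    · intro g hg
      rcases hN g hg with h | ⟨t, ht, rfl⟩
      · exact Subgroup.mem_sup_right ⟨h, hg⟩
      · exact mul_mem (Subgroup.mem_sup_right ht) (Subgroup.mem_sup_left (Subgroup.subset_closure rfl))
  mul_mem_union := by
    intro s hs m hm b hb
    rw [Set.mem_singleton_iff] at hs
    subst hs
    rw [Set.mem_union, DoubleCoset.mem_doubleCoset, DoubleCoset.mem_doubleCoset]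
    rcases hN m hm with h | ⟨t, ht, rfl⟩
    · exact Or.inl ⟨1, one_mem B, m⁻¹ * b * m, mul_mem (mul_mem (inv_mem h) hb) h, by group⟩
    · rcases hG (s * b * (t * s)) with h | ⟨c, hc1, c', hc2, h⟩
      · refine Or.inl ⟨s * b * (t * s) * (s * (t * s))⁻¹, ?_, 1, one_mem B, by group⟩
        have h1 : s * (t * s) ∈ B := by
          have : s * (t * s) = (s * t * s⁻¹) * (s * s) := by group
          rw [this]
          exact mul_mem (hc t ht) hnn
        exact mul_mem h (inv_mem h1)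
      · refine Or.inr ⟨c * t⁻¹, mul_mem hc1 (inv_mem ht.1), c', hc2, ?_⟩
        rw [h]; group
  conj_ne := by
    intro s hs h
    rw [Set.mem_singleton_iff] at hs
    subst hs
    obtain ⟨b, hb, hb'⟩ := hne
    apply hb'
    have : s * b * s ∈ (fun b : G => s * b * s) '' (B : Set G) := ⟨b, hb, rfl⟩
    rw [h] at this
    exact this

end RankOne

section Ree

variable {K : Type*} [Field K] {G : Type*} [Group G]
variable {m : ℕ} {U : K → K → K → G} {h : Kˣ → G} {n : G}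

/-- The torus. -/
def hSub (D : Data m U h n) : Subgroup G where
  carrier := {g | ∃ a, g = h a}
  mul_mem' := by
    rintro _ _ ⟨a, rfl⟩ ⟨b, rfl⟩
    exact ⟨a * b, (D.h_mul a b).symm⟩
  one_mem' := ⟨1, D.h_one.symm⟩
  inv_mem' := by
    rintro _ ⟨a, rfl⟩
    exact ⟨a⁻¹, (D.h_inv a).symm⟩

/-- The Borel subgroup. -/
def bSub (D : Data m U h n) : Subgroup G where
  carrier := {g | ∃ u ∈ uSub D, ∃ a, g = u * h a}
  mul_mem' := by
    rintro _ _ ⟨u, hu, a, rfl⟩ ⟨v, hv, b, rfl⟩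
    refine ⟨u * (h a * v * (h a)⁻¹), mul_mem hu (h_conj_mem D a hv), a * b, ?_⟩
    rw [D.h_mul]
    group
  one_mem' := ⟨1, one_mem _, 1, by rw [D.h_one, one_mul]⟩
  inv_mem' := by
    rintro _ ⟨u, hu, a, rfl⟩
    refine ⟨h a⁻¹ * u⁻¹ * (h a⁻¹)⁻¹, h_conj_mem D _ (inv_mem hu), a⁻¹, ?_⟩
    rw [inv_mul_cancel_right, mul_inv_rev, D.h_inv]

/-- The monomial subgroup. -/
def nSub (D : Data m U h n) : Subgroup G where
  carrier := {g | (∃ a, g = h a) ∨ ∃ a, g = h a * n}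
  mul_mem' := by
    rintro _ _ (⟨a, rfl⟩ | ⟨a, rfl⟩) (⟨b, rfl⟩ | ⟨b, rfl⟩)
    · exact Or.inl ⟨a * b, (D.h_mul a b).symm⟩
    · exact Or.inr ⟨a * b, by rw [D.h_mul, mul_assoc]⟩
    · exact Or.inr ⟨a * b⁻¹, by rw [D.h_mul, mul_assoc, D.n_h, mul_assoc]⟩
    · refine Or.inl ⟨a * b⁻¹, ?_⟩
      rw [D.h_mul]
      calc h a * n * (h b * n) = h a * (n * h b) * n := by group
        _ = h a * h b⁻¹ * (n * n) := by rw [D.n_h]; group
        _ = _ := by rw [D.n_n, mul_one]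
  one_mem' := Or.inl ⟨1, D.h_one.symm⟩
  inv_mem' := by
    rintro _ (⟨a, rfl⟩ | ⟨a, rfl⟩)
    · exact Or.inl ⟨a⁻¹, (D.h_inv a).symm⟩
    · refine Or.inr ⟨a, ?_⟩
      rw [mul_inv_rev, D.n_inv, ← D.h_inv, D.n_h, inv_inv]

theorem h_mem_bSub (D : Data m U h n) (a : Kˣ) : h a ∈ bSub D := ⟨1, one_mem _, a, (one_mul _).symm⟩

theorem uSub_le_bSub (D : Data m U h n) : uSub D ≤ bSub D := fun u hu => ⟨u, hu, 1, by rw [D.h_one, mul_one]⟩

/-- `U ∩ U^n = 1` in the strong form. -/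
theorem eq_one_of_conj (D : Data m U h n) {u : G} (hu : u ∈ uSub D) (hn : n * u * n ∈ bSub D) : u = 1 := by
  obtain ⟨t, x, v, rfl⟩ := hu
  obtain ⟨w, ⟨t', x', v', rfl⟩, a, e⟩ := hn
  have e2 : U 0 0 0 * h 1 * n * U t x v = U t' x' v' * h a * n * U 0 0 0 := by
    rw [D.U_zero, D.h_one, one_mul, one_mul, mul_one, ← e, mul_assoc, D.n_n, mul_one]
  obtain ⟨-, -, -, -, h1, h2, h3⟩ := D.inj₂ _ _ _ _ _ _ _ _ _ _ _ _ _ _ e2
  rw [h1, h2, h3, D.U_zero]

theorem n_not_mem_bSub (D : Data m U h n) : n ∉ bSub D := by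
  rintro ⟨w, ⟨t', x', v', rfl⟩, a, e⟩
  refine D.ne t' x' v' a 0 0 0 1 0 0 0 ?_
  rw [← e, D.U_zero, D.h_one, one_mul, one_mul, mul_one]

theorem h_inj (D : Data m U h n) {a b : Kˣ} (e : h a = h b) : a = b :=
  (D.inj₁ 0 0 0 a 0 0 0 b (by rw [e])).2.2.2

theorem u_inf_h (D : Data m U h n) {u : G} (hu : u ∈ uSub D) {a : Kˣ} (e : u = h a) : u = 1 := by
  obtain ⟨t, x, v, rfl⟩ := hu
  obtain ⟨h1, h2, h3, -⟩ := D.inj₁ t x v 1 0 0 0 a (by rw [D.h_one, mul_one, e, D.U_zero, one_mul])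
  rw [h1, h2, h3, D.U_zero]

/-- elements of `B ∩ N` are in the torus -/
theorem mem_inf (D : Data m U h n) {g : G} (hB : g ∈ bSub D) (hN : g ∈ nSub D) : ∃ a, g = h a := by
  rcases hN with h1 | ⟨a, rfl⟩
  · exact h1
  · exfalso
    apply n_not_mem_bSub D
    have h1 := mul_mem (inv_mem (h_mem_bSub D a)) hB
    rwa [inv_mul_cancel_left] at h1

theorem bruhat' (D : Data m U h n) (g : G) : g ∈ bSub D ∨ ∃ b ∈ bSub D, ∃ b' ∈ bSub D, g = b * n * b' := by
  rcases D.bruhat g with ⟨t, u, v, a, rfl⟩ | ⟨t, u, v, a, t', u', v', rfl⟩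
  · exact Or.inl ⟨_, ⟨t, u, v, rfl⟩, a, rfl⟩
  · exact Or.inr ⟨_, ⟨_, ⟨t, u, v, rfl⟩, a, rfl⟩, _, uSub_le_bSub D ⟨t', u', v', rfl⟩, rfl⟩

/-- The (B,N)-pair. -/
def bnPair (D : Data m U h n) : Cfsg.BNPair G :=
  rankOne (bSub D) (nSub D) n (Or.inr ⟨1, by rw [D.h_one, one_mul]⟩)
    (by rw [D.n_n]; exact one_mem _) (bruhat' D)
    (by
      rintro g (⟨a, rfl⟩ | ⟨a, rfl⟩)
      · exact Or.inl (h_mem_bSub D a)
      · exact Or.inr ⟨h a, ⟨h_mem_bSub D a, Or.inl ⟨a, rfl⟩⟩, rfl⟩)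
    (by
      rintro t ⟨ht1, ht2⟩
      obtain ⟨a, rfl⟩ := mem_inf D ht1 ht2
      rw [D.n_h, mul_inv_cancel_right]
      exact h_mem_bSub D _)
    (by
      refine ⟨U 0 1 0, uSub_le_bSub D ⟨0, 1, 0, rfl⟩, fun hn => ?_⟩
      have h1 := eq_one_of_conj D ⟨0, 1, 0, rfl⟩ hn
      rw [← D.U_zero] at h1
      exact one_ne_zero (U_injective D h1).2.1)

theorem split [Fintype K] (hK : Fintype.card K = 3 ^ (2 * m + 1)) (D : Data m U h n) :
    Split (bnPair D) 3 (uSub D) := by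
  have : Fact (Nat.Prime 3) := ⟨Nat.prime_three⟩
  have hfin : Finite G := finite D
  have hBU : ∀ b ∈ bSub D, ∀ u ∈ uSub D, b * u * b⁻¹ ∈ uSub D := by
    rintro _ ⟨v, hv, a, rfl⟩ u hu
    have e : v * h a * u * (v * h a)⁻¹ = v * (h a * u * (h a)⁻¹) * v⁻¹ := by group
    rw [e]
    exact mul_mem (mul_mem hv (h_conj_mem D a hu)) (inv_mem hv)
  refine ⟨uSub_le_bSub D, hBU, ?_, ?_, ⟨Fintype.card K - 1, ?_, ?_⟩, ?_, ?_⟩
  · apply IsPGroup.of_card (n := (2 * m + 1) * 3)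
    rw [card_uSub, hK, ← pow_mul]
  · rintro _ ⟨u, hu, a, rfl⟩
    refine ⟨u, hu, ?_⟩
    rw [inv_mul_cancel_left]
    exact Or.inl ⟨a, rfl⟩
  · rw [hK]
    intro h1
    have h2 : 3 ∣ 3 ^ (2 * m + 1) := dvd_pow_self 3 (by omega)
    have h4 : 1 ≤ 3 ^ (2 * m + 1) := Nat.one_le_pow _ _ (by norm_num)
    have h3 := Nat.dvd_sub h2 h1
    rw [Nat.sub_sub_self h4] at h3
    omega
  · intro g hB hN
    obtain ⟨a, rfl⟩ := mem_inf D hB hN
    have h1 : ∀ k : ℕ, h a ^ k = h (a ^ k) := by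
      intro k
      induction k with
      | zero => rw [pow_zero, pow_zero, D.h_one]
      | succ k ih => rw [pow_succ, ih, pow_succ, D.h_mul]
    rw [h1]
    have h2 : a ^ (Fintype.card K - 1) = 1 := by
      have h3 : Nat.card Kˣ = Fintype.card K - 1 := by rw [Nat.card_units, Nat.card_eq_fintype_card]
      rw [← h3]
      exact pow_card_eq_one'
    rw [h2, D.h_one]
  · intro s hs
    have hs' : s = n := hs
    subst hs'
    refine ⟨⊥, bot_le, ⟨U 0 1 0, ⟨0, 1, 0, rfl⟩, fun h1 => ?_⟩, ?_, ?_, ?_⟩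
    · rw [Subgroup.mem_bot, ← D.U_zero] at h1
      exact one_ne_zero (U_injective D h1).2.1
    · intro b _ v hv
      rw [Subgroup.mem_bot] at hv ⊢
      rw [hv, mul_one, mul_inv_cancel]
    · intro v hv
      rw [Subgroup.mem_bot] at hv ⊢
      rw [hv, mul_one, inv_mul_cancel]
    · intro u hu hb
      rw [Subgroup.mem_bot]
      rw [D.n_inv] at hb
      exact eq_one_of_conj D hu hb
  · show (bSub D).normalCore = ⊥
    rw [Subgroup.eq_bot_iff_forall]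
    have hcore : ∀ x ∈ (bSub D).normalCore, ∃ a, x = h a := by
      intro x hx
      obtain ⟨u, hu, a, rfl⟩ := (bSub D).normalCore_le hx
      have h1 : n * (u * h a) * n⁻¹ ∈ bSub D :=
        (bSub D).normalCore_le (Subgroup.normalCore_normal _ |>.conj_mem _ hx n)
      have h2 : n * u * n ∈ bSub D := by
        have e : n * u * n = n * (u * h a) * n⁻¹ * (h a⁻¹)⁻¹ := by
          rw [D.n_inv]
          have e2 : n * (u * h a) * n = n * u * (h a * n) := by group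
          rw [e2, D.n_h', ← mul_assoc, mul_inv_cancel_right]
        rw [e]
        exact mul_mem h1 (inv_mem (h_mem_bSub D _))
      exact ⟨a, by rw [eq_one_of_conj D hu h2, one_mul]⟩
    intro x hx
    obtain ⟨a, rfl⟩ := hcore x hx
    obtain ⟨b, hb⟩ := hcore _ (Subgroup.normalCore_normal _ |>.conj_mem _ hx (U 1 0 0))
    have e1 : U 1 0 0 * (h a * (U 1 0 0)⁻¹ * (h a)⁻¹) = h (b * a⁻¹) := by
      rw [D.h_mul, ← hb, D.h_inv]
      group
    have e2 := u_inf_h D (mul_mem ⟨1, 0, 0, rfl⟩ (h_conj_mem D a (inv_mem ⟨1, 0, 0, rfl⟩))) e1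
    have e3 : h a * U 1 0 0 = U 1 0 0 * h a := by
      have e4 : h a * U 1 0 0 * (h a)⁻¹ = U 1 0 0 := by
        have e5 : (U 1 0 0 * (h a * (U 1 0 0)⁻¹ * (h a)⁻¹))⁻¹ * U 1 0 0 = h a * U 1 0 0 * (h a)⁻¹ := by group
        rw [← e5, e2, inv_one, one_mul]
      calc h a * U 1 0 0 = h a * U 1 0 0 * (h a)⁻¹ * h a := by rw [inv_mul_cancel_right]
        _ = _ := by rw [e4]
    rw [D.h_U] at e3
    obtain ⟨h1, -⟩ := D.inj₁ _ _ _ _ _ _ _ _ e3
    rw [mul_one] at h1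
    have h2 : a = 1 := eq_one_of_pow_three hK (m + 1) a (Units.ext (by rw [Units.val_pow_eq_pow_val, h1, Units.val_one]))
    rw [h2, D.h_one]

end Ree

/-- The split (B,N)-pair of ²G₂(q). -/
theorem hasSplit_Ree {K : Type*} [Field K] [Fintype K] {m : ℕ} (hK : Fintype.card K = 3 ^ (2 * m + 1)) :
    HasSplit 3 ↥(Cfsg.Lie.twistedG2 K (3 ^ m)) := by
  obtain ⟨U, h, n, D⟩ := Cfsg.Agent.ChevalleyStructure.Ree.Data.exists_data hK
  exact ⟨bnPair D, uSub D, ⟨n, rfl⟩, split hK D⟩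

theorem hasSplit_of_isoRee {G : Type*} [Group G] (h : Cfsg.Lie.IsoRee G) : HasSplit 3 G := by
  obtain ⟨K, _, _, m, hm, hK, ⟨e⟩⟩ := h
  exact Transport.hasSplit_congr e.symm (hasSplit_Ree hK)

theorem hasSplit_of_isTwistedE6D4Char {G : Type*} [Group G] {p : ℕ} (h : Cfsg.IsTwistedE6D4Char p G) :
    HasSplit p G := by
  obtain ⟨K, _, _, _, q, hq, ⟨hK, ⟨e⟩⟩ | ⟨hK, ⟨e⟩⟩⟩ := h
  · exact Transport.hasSplit_congr e.symm (TwESixSplit.hasSplit_E6 hq hK)
  · exact Transport.hasSplit_congr e.symm (ThreeD4Split.hasSplit_D4 hq hK)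

end Cfsg.Agent.FixBN.ReeSplit
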